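import Cfsg.Agent.H113.QS.LiftZ
import Cfsg.Agent.H65.Ore.Split

/-!
# The sieve in a central extension, exceptional and non-exceptional characters separately (helper113, C4 for S2491, S2492)

* `DatZ L Z p e t θ NE X` : the block of defect one over the central character `θ`; `exists_datZ` : the constructor;
* `DatZ.block` : the bound of the sum over the block;
* `prd_split` : the sieve with `DN`, `DX` (characters of `K`) and `DN'`, `DX'` (nontrivial central characters).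
-/

set_option autoImplicit false
set_option linter.unusedSectionVars false

namespace Cfsg.Agent.H113.QS

open Cfsg Cfsg.Agent.Characters Subgroup Cfsg.Agent.H65.Ore
open Cfsg.Agent.SmallSimple.ThetaSetup Cfsg.Agent.SmallSimple.ThetaOrtho
open Cfsg.Agent.SmallSimple.TheoremC Cfsg.Agent.SmallSimple.TheoremCCor Cfsg.Agent.SmallSimple.ThetaCount
open scoped ComplexConjugate

universe u v

variable {L : Type u} [Group L] {K : Type v} [Group K]

/-- The block over a central character. -/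
structure DatZ (L : Type u) [Group L] (Z : Subgroup L) (p e t : ℕ) (θ : IrrCharacter Z)
    (NE X : Finset (IrrCharacter L)) : Prop where
  disj : Disjoint NE X
  cardNE : NE.card = e
  cardX : X.card = t
  het : e * t = p - 1
  lies : ∀ χ : IrrCharacter L, χ ∈ NE ∨ χ ∈ X → Lies Z (θ : Z → ℂ) (χ : L → ℂ)
  ne_val : ∀ χ ∈ NE, ∀ x : L, orderOf x = p → ‖(χ : L → ℂ) x‖ = 1
  ne_sign : ∀ χ ∈ NE, ∀ x : L, orderOf x = p → ((χ : L → ℂ) x = 1 ∧ charDegree (χ : L → ℂ) % p = 1) ∨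
    ((χ : L → ℂ) x = -1 ∧ charDegree (χ : L → ℂ) % p = p - 1)
  x_val : ∀ x : L, orderOf x = p → ∑ Θ ∈ X, ‖(Θ : L → ℂ) x‖ ^ 2 ≤ (p : ℝ) - e
  off : ∀ χ : IrrCharacter L, Lies Z (θ : Z → ℂ) (χ : L → ℂ) → χ ∉ NE → χ ∉ X → ∀ x : L, orderOf x = p →
    (χ : L → ℂ) x = 0
  eq_of : ∀ Θ ∈ X, ∀ Θ' ∈ X, ∀ g : L, ¬ p ∣ orderOf g → (Θ : L → ℂ) g = (Θ' : L → ℂ) g
  ne_deg : ∀ χ ∈ NE, charDegree (χ : L → ℂ) % p = 1 ∨ charDegree (χ : L → ℂ) % p = p - 1
  x_deg : ∀ Θ ∈ X, charDegree (Θ : L → ℂ) % p = e ∨ charDegree (Θ : L → ℂ) % p = p - e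

variable [Finite L] {Z : Subgroup L}

/-- the local constructor -/
theorem DatZ.of_sylow {p : ℕ} [hp : Fact p.Prime] {P : Sylow p L} (hZ : Z ≤ center L)
    (hK : IsComp p (P : Subgroup L) Z) (hP : Nat.card P = p) {e t : ℕ}
    (he : (centralizer ((P : Subgroup L) : Set L)).relIndex (normalizer ((P : Subgroup L) : Set L)) = e)
    (ht : e * t = p - 1)
    (hconj : ∀ y : L, orderOf y = p → ∃ z ∈ (P : Subgroup L), z ≠ 1 ∧ IsConj y z)
    (hsum : ∀ [Fintype (IrrCharacter L)] (x : L), orderOf x = p → ∀ θ : IrrCharacter Z,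
      ∑ χ ∈ ov Z (θ : Z → ℂ), ‖(χ : L → ℂ) x‖ ^ 2 ≤ (p : ℝ)) (θ : IrrCharacter Z) :
    ∃ NE X : Finset (IrrCharacter L), DatZ L Z p e t θ NE X := by
  classical
  have he0 : 0 < e := by
    rcases Nat.eq_zero_or_pos e with h | h
    · rw [h, zero_mul] at ht
      have := hp.out.two_le
      omega
    · exact h
  have hep : e < p := by
    have h1 : e ≤ p - 1 := Nat.le_of_dvd (by have := hp.out.two_le; omega) ⟨t, ht.symm⟩
    have := hp.out.two_le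
    omega
  have hst := stable hZ hK θ
  have he' := (card_stabAct_of_stable hK hP θ.2 hst).trans he
  obtain ⟨NE, X, ε, d, S, hOv, hdis, hNE, hX, hε, hd, hv, hvX, hXd, -, hreg⟩ := theoremC hK hP θ.2 he' ht
  have hpart : ∀ χ : IrrCharacter L, (χ ∈ NE ∨ χ ∈ X) → Lies Z (θ : Z → ℂ) (χ : L → ℂ) ∧
      ∀ y : L, part (θ : Z → ℂ) (χ : L → ℂ) y = (χ : L → ℂ) y := by
    intro χ hχ
    have h1 := lies_of_over hZ hK hP ((hOv χ).2 hχ)
    exact ⟨h1, part_of_lies hZ h1⟩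
  have hmove : ∀ y : L, orderOf y = p → ∃ z : (P : Subgroup L), z ≠ 1 ∧
      ∀ χ : IrrCharacter L, (χ : L → ℂ) y = (χ : L → ℂ) z := by
    intro y hy
    obtain ⟨z, hz, hz1, hyz⟩ := hconj y hy
    refine ⟨⟨z, hz⟩, fun h => hz1 (congrArg Subtype.val h), fun χ => ?_⟩
    obtain ⟨g, rfl⟩ := isConj_iff.1 hyz
    exact (Core.isIrr_isClassFunction χ.2 y g).symm
  have hne : ∀ χ ∈ NE, ∀ y : L, orderOf y = p → ‖(χ : L → ℂ) y‖ = 1 := by
    intro χ hχ y hy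
    obtain ⟨z, hz1, h⟩ := hmove y hy
    rw [h χ, ← (hpart χ (Or.inl hχ)).2, hv χ hχ z hz1]
    rcases hε χ hχ with h | h <;> rw [h] <;> simp
  have hoff : ∀ χ : IrrCharacter L, Lies Z (θ : Z → ℂ) (χ : L → ℂ) → χ ∉ NE → χ ∉ X → ∀ y : L, orderOf y = p →
      (χ : L → ℂ) y = 0 := by
    intro χ hl h1 h2 y hy
    by_contra h0
    obtain ⟨θ', hθ'⟩ := exists_mem_Over hK hP (χ := χ) ⟨y, by rw [hy], h0⟩
    have h3 := hl.unique (lies_of_over hZ hK hP hθ')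
    rw [← h3] at hθ'
    rcases (hOv χ).1 hθ' with h | h
    · exact h1 h
    · exact h2 h
  have hfin : Finite (IrrCharacter L) := Core.finite_irr
  have := Fintype.ofFinite (IrrCharacter L)
  have hpn : ∀ {n : ℕ} {a m : ℤ}, (n : ℂ) = ((a + p * m : ℤ) : ℂ) → (p : ℤ) ∣ (n : ℤ) - a := by
    intro n a m h
    have h2 : (n : ℤ) = a + p * m := by exact_mod_cast h
    exact ⟨m, by rw [h2]; ring⟩
  have hned : ∀ χ ∈ NE, (ε χ = 1 ∧ charDegree (χ : L → ℂ) % p = 1) ∨ (ε χ = -1 ∧ charDegree (χ : L → ℂ) % p = p - 1) := by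
    intro χ hχ
    obtain ⟨m, hm⟩ := part_one_of_const hK hP (Core.isIrr_isCharacter χ.2) θ.2 (hv χ hχ)
    rw [(hpart χ (Or.inl hχ)).2, cast_deg] at hm
    have h3 := hpn (a := ε χ) (m := m) (by push_cast; exact_mod_cast hm)
    rcases hε χ hχ with h | h
    · left
      rw [h] at h3
      exact ⟨h, mod_of_dvd_sub (by exact_mod_cast h3) hp.out.one_lt⟩
    · right
      rw [h, sub_neg_eq_add] at h3
      exact ⟨h, mod_of_dvd_add (by exact_mod_cast h3) one_pos hp.out.one_lt⟩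
  refine ⟨NE, X, hdis, hNE, hX, ht, fun χ hχ => (hpart χ hχ).1, hne, ?_, ?_, hoff, ?_, ?_, ?_⟩
  · intro χ hχ y hy
    obtain ⟨z, hz1, h⟩ := hmove y hy
    have h1 : (χ : L → ℂ) y = ε χ := by rw [h χ, ← (hpart χ (Or.inl hχ)).2, hv χ hχ z hz1]
    rcases hned χ hχ with ⟨h2, h3⟩ | ⟨h2, h3⟩
    · exact Or.inl ⟨by rw [h1, h2]; simp, h3⟩
    · exact Or.inr ⟨by rw [h1, h2]; simp, h3⟩
  · intro y hy
    have h1 := hsum y hy θ
    have hsub : NE ∪ X ⊆ ov Z (θ : Z → ℂ) := fun χ hχ => mem_ov.2 (hpart χ (Finset.mem_union.1 hχ)).1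
    have h3 := (Finset.sum_le_sum_of_subset_of_nonneg hsub
      (f := fun χ : IrrCharacter L => ‖(χ : L → ℂ) y‖ ^ 2) fun _ _ _ => by positivity).trans h1
    rw [Finset.sum_union hdis] at h3
    have h2 : ∑ χ ∈ NE, ‖(χ : L → ℂ) y‖ ^ 2 = e := by
      rw [Finset.sum_congr rfl fun χ hχ => by rw [hne χ hχ y hy, one_pow], Finset.sum_const, hNE, nsmul_eq_mul,
        mul_one]
    rw [h2] at h3
    linarith
  · intro Θ hΘ Θ' hΘ' g hg
    have h1 := hreg Θ hΘ g hg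
    have h2 := hreg Θ' hΘ' g hg
    rw [h1] at h2
    have hd0 : (d : ℂ) ≠ 0 := by rcases hd with rfl | rfl <;> simp
    exact mul_left_cancel₀ hd0 h2
  · intro χ hχ
    rcases hned χ hχ with h | h
    · exact Or.inl h.2
    · exact Or.inr h.2
  · intro Θ hΘ
    obtain ⟨hSc, hS1, -, hSv⟩ := hvX Θ hΘ
    obtain ⟨m, hm⟩ := part_one_of_exc hK hP (Core.isIrr_isCharacter Θ.2) θ.2 hS1 hSv
    rw [(hpart Θ (Or.inr hΘ)).2, cast_deg, hSc] at hm
    have h3 := hpn (a := d * e) (m := m) (by push_cast; exact_mod_cast hm)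
    rcases hd with h | h
    · left
      rw [h, one_mul] at h3
      exact mod_of_dvd_sub h3 hep
    · right
      rw [h, neg_one_mul, sub_neg_eq_add] at h3
      exact mod_of_dvd_add h3 he0 hep

omit [Finite L] in
theorem deg_pos (χ : IrrCharacter L) : (0 : ℝ) < charDegree (χ : L → ℂ) := by
  exact_mod_cast Nat.pos_of_ne_zero (charDegree_ne_zero χ.2)

/-- **The sum over a part `N ∪ X` of the block** (`N ⊆ NE`). -/
theorem DatZ.block [DecidableEq (IrrCharacter L)] {p e t : ℕ} {θ : IrrCharacter Z} {NE X : Finset (IrrCharacter L)} (h : DatZ L Z p e t θ NE X)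
    (hp : p.Prime) {x y g : L} (hx : orderOf x = p) (hy : orderOf y = p) (hg : ¬ p ∣ orderOf g)
    {N : Finset (IrrCharacter L)} (hN : N ⊆ NE) {DN DX c : ℝ} (hDN0 : 0 < DN) (hDX0 : 0 < DX)
    (hDN : ∀ χ ∈ N, DN ≤ charDegree (χ : L → ℂ)) (hDX : ∀ χ ∈ X, DX ≤ charDegree (χ : L → ℂ))
    (hc : ∑ χ ∈ N ∪ X, ‖(χ : L → ℂ) g‖ ^ 2 ≤ c) :
    ‖∑ χ ∈ N ∪ X, (χ : L → ℂ) x * (χ : L → ℂ) y * conj ((χ : L → ℂ) g) / (χ : L → ℂ) 1‖ ≤
      √(((N.card : ℝ) / DN ^ 2 + ((p : ℝ) - e) ^ 2 / (t * DX ^ 2)) * c) := by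
  have hd2 : Disjoint N X := h.disj.mono_left hN
  have hpe : (0 : ℝ) ≤ (p : ℝ) - e := le_trans (Finset.sum_nonneg fun _ _ => by positivity) (h.x_val x hx)
  have hCS : ‖∑ Θ ∈ X, (Θ : L → ℂ) x * (Θ : L → ℂ) y‖ ≤ (p : ℝ) - e := by
    refine (norm_sum_le _ _).trans ?_
    have h2 := Finset.sum_mul_sq_le_sq_mul_sq X (fun Θ : IrrCharacter L => ‖(Θ : L → ℂ) x‖)
      (fun Θ : IrrCharacter L => ‖(Θ : L → ℂ) y‖)
    have h2' := h2.trans (mul_le_mul (h.x_val x hx) (h.x_val y hy) (Finset.sum_nonneg fun _ _ => by positivity) hpe)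
    rw [← pow_two] at h2'
    have h3 := abs_le_of_sq_le_sq' h2' hpe
    refine le_trans (le_of_eq ?_) h3.2
    exact Finset.sum_congr rfl fun Θ _ => norm_mul _ _
  have hXb : ‖∑ χ ∈ X, (χ : L → ℂ) x * (χ : L → ℂ) y * conj ((χ : L → ℂ) g) / (χ : L → ℂ) 1‖ ≤
      ∑ Θ ∈ X, ((p : ℝ) - e) / (t * charDegree (Θ : L → ℂ)) * ‖(Θ : L → ℂ) g‖ := by
    rcases X.eq_empty_or_nonempty with hX0 | ⟨Θ₀, hΘ₀⟩
    · rw [hX0]; simp
    have hone : ¬ p ∣ orderOf (1 : L) := by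
      rw [orderOf_one]; exact fun h => hp.one_lt.ne' (Nat.dvd_one.1 h)
    have e1 : ∀ Θ ∈ X, (Θ : L → ℂ) g = (Θ₀ : L → ℂ) g := fun Θ hΘ => h.eq_of Θ hΘ Θ₀ hΘ₀ g hg
    have e2 : ∀ Θ ∈ X, (Θ : L → ℂ) 1 = (Θ₀ : L → ℂ) 1 := fun Θ hΘ => h.eq_of Θ hΘ Θ₀ hΘ₀ 1 hone
    have e3 : ∀ Θ ∈ X, (charDegree (Θ : L → ℂ) : ℝ) = charDegree (Θ₀ : L → ℂ) := by
      intro Θ hΘ
      have h4 := e2 Θ hΘ
      rw [cast_deg, cast_deg] at h4
      exact_mod_cast h4
    have h5 : ∑ χ ∈ X, (χ : L → ℂ) x * (χ : L → ℂ) y * conj ((χ : L → ℂ) g) / (χ : L → ℂ) 1 =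
        (∑ Θ ∈ X, (Θ : L → ℂ) x * (Θ : L → ℂ) y) * (conj ((Θ₀ : L → ℂ) g) / (Θ₀ : L → ℂ) 1) := by
      rw [Finset.sum_mul]
      refine Finset.sum_congr rfl fun Θ hΘ => ?_
      rw [e1 Θ hΘ, e2 Θ hΘ]
      ring
    have h6 : ∑ Θ ∈ X, ((p : ℝ) - e) / (t * charDegree (Θ : L → ℂ)) * ‖(Θ : L → ℂ) g‖ =
        ((p : ℝ) - e) * (‖(Θ₀ : L → ℂ) g‖ / charDegree (Θ₀ : L → ℂ)) := by
      rw [Finset.sum_congr rfl fun Θ hΘ => by rw [e1 Θ hΘ, e3 Θ hΘ], Finset.sum_const, h.cardX, nsmul_eq_mul]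
      have ht : (t : ℝ) ≠ 0 := by
        rw [← h.cardX]
        exact_mod_cast (Finset.card_pos.2 ⟨Θ₀, hΘ₀⟩).ne'
      have := (deg_pos Θ₀).ne'
      field_simp
    rw [h5, h6, norm_mul, norm_div, Complex.norm_conj, cast_deg, Complex.norm_natCast]
    exact mul_le_mul_of_nonneg_right hCS (by positivity)
  have hNb : ‖∑ χ ∈ N, (χ : L → ℂ) x * (χ : L → ℂ) y * conj ((χ : L → ℂ) g) / (χ : L → ℂ) 1‖ ≤
      ∑ χ ∈ N, 1 / (charDegree (χ : L → ℂ) : ℝ) * ‖(χ : L → ℂ) g‖ := by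
    refine (norm_sum_le _ _).trans (le_of_eq ?_)
    refine Finset.sum_congr rfl fun χ hχ => ?_
    have hχ' := hN hχ
    rw [norm_div, norm_mul, norm_mul, Complex.norm_conj, h.ne_val χ hχ' x hx, h.ne_val χ hχ' y hy, cast_deg,
      Complex.norm_natCast]
    ring
  set a : IrrCharacter L → ℝ := fun χ => if χ ∈ X then ((p : ℝ) - e) / (t * charDegree (χ : L → ℂ)) else
    1 / (charDegree (χ : L → ℂ) : ℝ) with ha
  have haN : ∀ χ ∈ N, a χ = 1 / (charDegree (χ : L → ℂ) : ℝ) := fun χ hχ => by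
    rw [ha]; exact if_neg (Finset.disjoint_left.1 hd2 hχ)
  have haX : ∀ χ ∈ X, a χ = ((p : ℝ) - e) / (t * charDegree (χ : L → ℂ)) := fun χ hχ => by
    rw [ha]; exact if_pos hχ
  have h7 : ‖∑ χ ∈ N ∪ X, (χ : L → ℂ) x * (χ : L → ℂ) y * conj ((χ : L → ℂ) g) / (χ : L → ℂ) 1‖ ≤
      ∑ χ ∈ N ∪ X, a χ * ‖(χ : L → ℂ) g‖ := by
    rw [Finset.sum_union hd2, Finset.sum_union hd2]
    refine (norm_add_le _ _).trans (add_le_add (hNb.trans (le_of_eq ?_)) (hXb.trans (le_of_eq ?_)))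
    · exact Finset.sum_congr rfl fun χ hχ => by rw [haN χ hχ]
    · exact Finset.sum_congr rfl fun χ hχ => by rw [haX χ hχ]
  have h8 := Real.sum_mul_le_sqrt_mul_sqrt (N ∪ X) a (fun χ : IrrCharacter L => ‖(χ : L → ℂ) g‖)
  have ha2 : ∑ χ ∈ N ∪ X, a χ ^ 2 ≤ (N.card : ℝ) / DN ^ 2 + ((p : ℝ) - e) ^ 2 / (t * DX ^ 2) := by
    rw [Finset.sum_union hd2]
    refine add_le_add ?_ ?_
    · have h2 : ∑ χ ∈ N, a χ ^ 2 ≤ ∑ _χ ∈ N, (1 / DN) ^ 2 := by
        refine Finset.sum_le_sum fun χ hχ => ?_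
        rw [haN χ hχ]
        have h3 := hDN χ hχ
        have := deg_pos χ
        gcongr
      rw [Finset.sum_const, nsmul_eq_mul] at h2
      refine h2.trans (le_of_eq ?_)
      field_simp
    · have h3 : ∑ Θ ∈ X, a Θ ^ 2 ≤ ∑ _Θ ∈ X, (((p : ℝ) - e) / (t * DX)) ^ 2 := by
        refine Finset.sum_le_sum fun Θ hΘ => ?_
        rw [haX Θ hΘ]
        have h4 := hDX Θ hΘ
        have := deg_pos Θ
        have ht : (0 : ℝ) < t := by
          rw [← h.cardX]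
          exact_mod_cast Finset.card_pos.2 ⟨Θ, hΘ⟩
        gcongr
      rw [Finset.sum_const, h.cardX, nsmul_eq_mul] at h3
      refine h3.trans (le_of_eq ?_)
      rcases Nat.eq_zero_or_pos t with h0 | h0
      · rw [h0]; simp
      · have ht : (t : ℝ) ≠ 0 := by exact_mod_cast h0.ne'
        field_simp
  refine h7.trans (h8.trans ?_)
  have hw0 : 0 ≤ (N.card : ℝ) / DN ^ 2 + ((p : ℝ) - e) ^ 2 / (t * DX ^ 2) :=
    le_trans (Finset.sum_nonneg fun _ _ => by positivity) ha2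
  rw [Real.sqrt_mul hw0]
  exact mul_le_mul (Real.sqrt_le_sqrt ha2) (Real.sqrt_le_sqrt hc) (Real.sqrt_nonneg _) (Real.sqrt_nonneg _)

section Ext

variable [Finite K] {π : L →* K}

/-- **The constructor.** -/
theorem exists_datZ [IsSimpleGroup K] (hK : ¬ IsMulCommutative K) (hs : Function.Surjective π) (hc : π.ker ≤ center L)
    {p : ℕ} (hp : p.Prime) {N : ℕ} (hN : Nat.card K = N) {x₀ : K} (hx : orderOf x₀ = p)
    (hcx : Nat.card (centralizer ({x₀} : Set K)) = p) (hZ : ¬ p ∣ Nat.card π.ker) (e t S : ℕ)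
    (hnum : chkSC N p e t S = true) (θ : IrrCharacter π.ker) :
    ∃ NE X : Finset (IrrCharacter L), DatZ L π.ker p e t θ NE X := by
  have hpF : Fact p.Prime := ⟨hp⟩
  obtain ⟨ht, hS, hcy, P, hP, hcomp, hrel, hconj⟩ := setupZ hK hs hc hp hN hx hcx hZ e t S hnum
  refine DatZ.of_sylow hc hcomp hP hrel ht hconj ?_ θ
  intro _ x hx θ'
  have h1 := sum_lies_sq_le hs hc θ' x
  have h2 : orderOf (π x) = p := by
    have h3 : orderOf (π x) ∣ p := by rw [← hx]; exact orderOf_map_dvd π x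
    rcases (Nat.dvd_prime hp).1 h3 with h4 | h4
    · exact (eq_one_of_ker' hp hZ (MonoidHom.mem_ker.2 (orderOf_eq_one_iff.1 h4)) hx).elim
    · exact h4
  rwa [hcy _ h2] at h1

/-- the trivial character is not exceptional -/
theorem DatZ.one_mem {p e t : ℕ} {NE X : Finset (IrrCharacter L)} (h : DatZ L π.ker p e t (one1 π.ker) NE X)
    {x : L} (hx : orderOf x = p) (he1 : 1 < e) (hep : e + 1 < p) : one1 L ∈ NE := by
  by_contra hn
  have h1 : one1 L ∈ X := by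
    by_contra hX
    have h2 := h.off (one1 L) one_lies hn hX x hx
    rw [one1_apply] at h2
    exact one_ne_zero h2
  have h3 := h.x_deg _ h1
  have h4 : charDegree (one1 L : L → ℂ) = 1 := by
    have := cast_deg (one1 L)
    rw [one1_apply] at this
    exact_mod_cast this.symm
  rw [h4, Nat.mod_eq_of_lt (by omega)] at h3
  omega

/-- **The sieve, split form.** -/
theorem prd_split [IsSimpleGroup K] (hK : ¬ IsMulCommutative K) (hs : Function.Surjective π) (hc : π.ker ≤ center L)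
    {p : ℕ} (hp : p.Prime) {N : ℕ} (hN : Nat.card K = N) {x₀ : K} (hx₀ : orderOf x₀ = p)
    (hcx : Nat.card (centralizer ({x₀} : Set K)) = p) (hZ : ¬ p ∣ Nat.card π.ker) (e t S : ℕ)
    (hchk : chkSC N p e t S = true) {x y g : L} (hx : orderOf x = p) (hy : orderOf y = p) (hg : ¬ p ∣ orderOf g)
    {DN DX DN' DX' c m : ℕ} (hm : Nat.card π.ker ≤ m)
    (hDN : ∀ ψ : IrrCharacter K, (ψ : K → ℂ) ≠ 1 →
      (charDegree (ψ : K → ℂ) % p = 1 ∨ charDegree (ψ : K → ℂ) % p = p - 1) → DN ≤ charDegree (ψ : K → ℂ))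
    (hDX : ∀ ψ : IrrCharacter K, (ψ : K → ℂ) ≠ 1 →
      (charDegree (ψ : K → ℂ) % p = e ∨ charDegree (ψ : K → ℂ) % p = p - e) → DX ≤ charDegree (ψ : K → ℂ))
    (hDN' : ∀ χ : IrrCharacter L, (∃ z ∈ π.ker, (χ : L → ℂ) z ≠ (χ : L → ℂ) 1) →
      (charDegree (χ : L → ℂ) % p = 1 ∨ charDegree (χ : L → ℂ) % p = p - 1) → DN' ≤ charDegree (χ : L → ℂ))
    (hDX' : ∀ χ : IrrCharacter L, (∃ z ∈ π.ker, (χ : L → ℂ) z ≠ (χ : L → ℂ) 1) →
      (charDegree (χ : L → ℂ) % p = e ∨ charDegree (χ : L → ℂ) % p = p - e) → DX' ≤ charDegree (χ : L → ℂ))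
    (hcard : Nat.card (centralizer ({π g} : Set K)) ≤ c) (r r' : ℚ)
    (hpos : 0 < DN ∧ 0 < DX ∧ 0 < DN' ∧ 0 < DX' ∧ 1 < e ∧ e + 1 < p ∧ 0 ≤ r ∧ 0 ≤ r')
    (hr : (((e : ℚ) - 1) / DN ^ 2 + ((p : ℚ) - e) ^ 2 / (t * DX ^ 2)) * c ≤ r ^ 2)
    (hr' : ((e : ℚ) / DN' ^ 2 + ((p : ℚ) - e) ^ 2 / (t * DX' ^ 2)) * c ≤ r' ^ 2)
    (hsum : r + ((m : ℚ) - 1) * r' < 1) : Prd x y g := by
  classical
  obtain ⟨h1, h2, h3, h4, he1, hep, hr0, hr0'⟩ := hpos
  have hfinL : Finite (IrrCharacter L) := Core.finite_irr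
  have := Fintype.ofFinite (IrrCharacter L)
  have hfinZ : Finite (IrrCharacter π.ker) := Core.finite_irr
  have := Fintype.ofFinite (IrrCharacter π.ker)
  choose NE X hD using exists_datZ hK hs hc hp hN hx₀ hcx hZ e t S hchk
  have hcR : (Nat.card (centralizer ({π g} : Set K)) : ℝ) ≤ c := by exact_mod_cast hcard
  have hcc : ∀ (θ : IrrCharacter π.ker) (s : Finset (IrrCharacter L)), s ⊆ NE θ ∪ X θ →
      ∑ χ ∈ s, ‖(χ : L → ℂ) g‖ ^ 2 ≤ (c : ℝ) := by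
    intro θ s hss
    have hsub : s ⊆ ov π.ker (θ : π.ker → ℂ) := fun χ hχ =>
      mem_ov.2 ((hD θ).lies χ (Finset.mem_union.1 (hss hχ)))
    exact ((Finset.sum_le_sum_of_subset_of_nonneg hsub
      (f := fun χ : IrrCharacter L => ‖(χ : L → ℂ) g‖ ^ 2) fun _ _ _ => by positivity).trans
        (sum_lies_sq_le hs hc θ g)).trans hcR
  set F : IrrCharacter L → ℂ := fun χ =>
    (χ : L → ℂ) x * (χ : L → ℂ) y * conj ((χ : L → ℂ) g) / (χ : L → ℂ) 1 with hF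
  have hblock : ∀ θ : IrrCharacter π.ker, ∑ χ ∈ ov π.ker (θ : π.ker → ℂ), F χ = ∑ χ ∈ NE θ ∪ X θ, F χ := by
    intro θ
    symm
    refine Finset.sum_subset (fun χ hχ => mem_ov.2 ((hD θ).lies χ (Finset.mem_union.1 hχ))) fun χ h5 h6 => ?_
    rw [Finset.mem_union, not_or] at h6
    rw [hF]
    simp only
    rw [(hD θ).off χ (mem_ov.1 h5) h6.1 h6.2 x hx]
    simp
  have hone := (hD (one1 π.ker)).one_mem hx he1 hep
  apply prd_of_ne_zero
  intro h0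
  have h0' : ∑ χ : IrrCharacter L, F χ = 0 := h0
  rw [sum_split hc, ← Finset.add_sum_erase Finset.univ _ (Finset.mem_univ (one1 π.ker)), hblock] at h0'
  have hX1 : one1 L ∉ X (one1 π.ker) := Finset.disjoint_left.1 (hD (one1 π.ker)).disj hone
  have hun : NE (one1 π.ker) ∪ X (one1 π.ker) = insert (one1 L) ((NE (one1 π.ker)).erase (one1 L) ∪ X (one1 π.ker)) := by
    rw [← Finset.insert_union, Finset.insert_erase hone]
  have hnot : one1 L ∉ (NE (one1 π.ker)).erase (one1 L) ∪ X (one1 π.ker) := by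
    rw [Finset.mem_union, not_or]
    exact ⟨Finset.notMem_erase _ _, hX1⟩
  rw [hun, Finset.sum_insert hnot] at h0'
  have hF1 : F (one1 L) = 1 := by
    rw [hF]
    simp [one1_apply]
  rw [hF1] at h0'
  -- the bounds
  have b1 := (hD (one1 π.ker)).block hp hx hy hg (Finset.erase_subset (one1 L) _) (DN := DN) (DX := DX) (c := c)
    (by exact_mod_cast h1) (by exact_mod_cast h2) (fun χ hχ => by
      exact_mod_cast (by
        obtain ⟨ψ, hψ⟩ := deg_base hs χ ((hD (one1 π.ker)).lies χ (Or.inl (Finset.mem_of_mem_erase hχ)))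
        have h5 : charDegree (χ : L → ℂ) = charDegree (ψ : K → ℂ) := by
          unfold charDegree
          rw [hψ]
          simp
        have h6 := (hD (one1 π.ker)).ne_deg χ (Finset.mem_of_mem_erase hχ)
        rw [h5] at h6 ⊢
        refine hDN ψ (fun h7 => coe_ne_one (Finset.ne_of_mem_erase hχ) ?_) h6
        rw [hψ, h7]
        rfl : DN ≤ charDegree (χ : L → ℂ))) (fun χ hχ => by
      exact_mod_cast (by
        obtain ⟨ψ, hψ⟩ := deg_base hs χ ((hD (one1 π.ker)).lies χ (Or.inr hχ))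
        have h5 : charDegree (χ : L → ℂ) = charDegree (ψ : K → ℂ) := by
          unfold charDegree
          rw [hψ]
          simp
        have h6 := (hD (one1 π.ker)).x_deg χ hχ
        rw [h5] at h6 ⊢
        refine hDX ψ (fun h7 => hX1 ?_) h6
        have h8 : χ = one1 L := Subtype.ext (by rw [hψ, h7]; rfl)
        rwa [h8] at hχ : DX ≤ charDegree (χ : L → ℂ))) (hcc _ _ (Finset.union_subset_union_left (Finset.erase_subset _ _)))
  rw [Finset.card_erase_of_mem hone, (hD (one1 π.ker)).cardNE, Nat.cast_sub he1.le, Nat.cast_one] at b1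
  have b1' : √((((e : ℝ) - 1) / (DN : ℝ) ^ 2 + ((p : ℝ) - e) ^ 2 / (t * (DX : ℝ) ^ 2)) * c) ≤ r := by
    refine Real.sqrt_le_iff.2 ⟨by exact_mod_cast hr0, ?_⟩
    exact_mod_cast hr
  have b2 : ∀ θ ∈ Finset.univ.erase (one1 π.ker), ‖∑ χ ∈ ov π.ker (θ : π.ker → ℂ), F χ‖ ≤ (r' : ℝ) := by
    intro θ hθ
    have hθ1 := Finset.ne_of_mem_erase hθ
    rw [hblock]
    have b3 := (hD θ).block hp hx hy hg (Finset.Subset.refl _) (DN := DN') (DX := DX') (c := c)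
      (by exact_mod_cast h3) (by exact_mod_cast h4) (fun χ hχ => by
        exact_mod_cast hDN' χ (exists_ne_of_lies hθ1 ((hD θ).lies χ (Or.inl hχ))) ((hD θ).ne_deg χ hχ)) (fun χ hχ => by
        exact_mod_cast hDX' χ (exists_ne_of_lies hθ1 ((hD θ).lies χ (Or.inr hχ))) ((hD θ).x_deg χ hχ))
      (hcc _ _ (Finset.Subset.refl _))
    rw [(hD θ).cardNE] at b3
    refine b3.trans (Real.sqrt_le_iff.2 ⟨by exact_mod_cast hr0', ?_⟩)
    have h9 : (((((e : ℚ) / DN' ^ 2 + ((p : ℚ) - e) ^ 2 / (t * DX' ^ 2)) * c : ℚ)) : ℝ) ≤ ((r' ^ 2 : ℚ) : ℝ) :=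
      Rat.cast_le.2 hr'
    push_cast at h9
    exact h9
  have b4 : ‖∑ θ ∈ Finset.univ.erase (one1 π.ker), ∑ χ ∈ ov π.ker (θ : π.ker → ℂ), F χ‖ ≤ ((m : ℝ) - 1) * r' := by
    refine (norm_sum_le _ _).trans ((Finset.sum_le_sum b2).trans ?_)
    rw [Finset.sum_const, nsmul_eq_mul, Finset.card_erase_of_mem (Finset.mem_univ _), Finset.card_univ,
      ← Nat.card_eq_fintype_card, card_irr_ker hc]
    have h5 : (1 : ℕ) ≤ Nat.card π.ker := Nat.card_pos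
    rw [Nat.cast_sub h5, Nat.cast_one]
    have h6 : (Nat.card π.ker : ℝ) ≤ m := by exact_mod_cast hm
    have h7 : (0 : ℝ) ≤ r' := by exact_mod_cast hr0'
    gcongr
  have h5 : ∑ χ ∈ (NE (one1 π.ker)).erase (one1 L) ∪ X (one1 π.ker), F χ +
      ∑ θ ∈ Finset.univ.erase (one1 π.ker), ∑ χ ∈ ov π.ker (θ : π.ker → ℂ), F χ = -1 := by
    linear_combination h0'
  have h6 := norm_add_le (∑ χ ∈ (NE (one1 π.ker)).erase (one1 L) ∪ X (one1 π.ker), F χ)
    (∑ θ ∈ Finset.univ.erase (one1 π.ker), ∑ χ ∈ ov π.ker (θ : π.ker → ℂ), F χ)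
  rw [h5, norm_neg, norm_one] at h6
  have h7 : (r : ℝ) + ((m : ℝ) - 1) * r' < 1 := by exact_mod_cast hsum
  have h8 := b1.trans b1'
  linarith

end Ext

end Cfsg.Agent.H113.QS
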