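import Cfsg.Agent.H65.Ore.SFour

/-!
# The fourth moment over one block of defect one (helper113, tool for S2491, S2492)

The argument of `H65.Ore.sum_four_pow` for any family `NE ∪ X` with the values of a block of defect one.
-/

set_option autoImplicit false
set_option linter.unusedSectionVars false

namespace Cfsg.Agent.H113.QS

open Cfsg Cfsg.Agent.Characters Subgroup Cfsg.Agent.H65.Ore
open scoped ComplexConjugate

universe u

variable {G : Type u} [Group G] [Finite G] {p : ℕ} [hp : Fact p.Prime]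

open Classical in
theorem four_core {P : Subgroup G} (hP : Nat.card P = p) {e t : ℕ}
    (he : (centralizer (P : Set G)).relIndex (normalizer (P : Set G)) = e) (ht : e * t = p - 1) {x : G}
    (hx : x ∈ P) (hx1 : x ≠ 1) {NE X : Finset (IrrCharacter G)} {ε : IrrCharacter G → ℤ} {d : ℤ}
    {S : IrrCharacter G → Finset (P →* ℂˣ)} (hdis : Disjoint NE X) (hNE : NE.card = e) (hX : X.card = t)
    (hε : ∀ χ ∈ NE, ε χ = 1 ∨ ε χ = -1) (hd : d = 1 ∨ d = -1)
    (hv : ∀ χ ∈ NE, ∀ x ∈ P, x ≠ 1 → (χ : G → ℂ) x = ε χ)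
    (hvX : ∀ Θ ∈ X, (S Θ).card = e ∧ 1 ∉ S Θ ∧ ∀ x : P, x ≠ 1 → (Θ : G → ℂ) x = d * ∑ l ∈ S Θ, ((l x : ℂˣ) : ℂ))
    (hXd : ∀ Θ ∈ X, ∀ Θ' ∈ X, Θ ≠ Θ' → Disjoint (S Θ) (S Θ')) :
    (e : ℝ) * ∑ χ ∈ NE ∪ X, ‖(χ : G → ℂ) x‖ ^ 4 + (e : ℝ) ^ 4 = (e : ℝ) ^ 2 + p * (enr p e : ℝ) := by
  have ho : orderOf x = p := order_eq hP hx hx1
  have hxP : (⟨x, hx⟩ : P) ≠ 1 := fun h => hx1 (congrArg Subtype.val h)
  obtain ⟨hnorm, hcard⟩ := norm_facts (P := P) hP hx hx1 he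
  obtain ⟨ψ, hψ, hψr⟩ := exists_psi (p := p)
  have he0 : e ≠ 0 := by
    rintro rfl
    have := hp.out.two_le
    omega
  -- the exponents
  have h1 : ∀ l : P →* ℂˣ, ∃ a : ZMod p, ((l ⟨x, hx⟩ : ℂˣ) : ℂ) = ψ a := by
    intro l
    apply hψr
    rw [← Units.val_pow_eq_pow_val, ← map_pow]
    have h3 : x ^ p = 1 := by
      have h4 := pow_orderOf_eq_one x
      rwa [ho] at h4
    have h2 : (⟨x, hx⟩ : P) ^ p = 1 := Subtype.ext h3
    rw [h2, map_one, Units.val_one]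
  choose ex hex using h1
  have hexk : ∀ (l : P →* ℂˣ) (k : ZMod p), ((l (⟨x, hx⟩ ^ k.val) : ℂˣ) : ℂ) = ψ (ex l * k) := by
    intro l k
    rw [map_pow, Units.val_pow_eq_pow_val, hex]
    have : ψ (ex l * k) = ψ (k.val • ex l) := by
      congr 1
      rw [nsmul_eq_mul, ZMod.natCast_zmod_val, mul_comm]
    rw [this, AddChar.map_nsmul_eq_pow]
  have hinj : Function.Injective ex := by
    intro l l' hll
    ext ⟨y, hy⟩
    obtain ⟨k, rfl⟩ := exists_pow_eq hP hx hx1 hy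
    have h2 := hexk l k
    have h3 := hexk l' k
    rw [hll, ← h3] at h2
    exact h2
  have hd1 : ‖(d : ℂ)‖ = 1 := by rcases hd with rfl | rfl <;> simp
  have hd0 : (d : ℂ) ≠ 0 := by rcases hd with rfl | rfl <;> simp
  set A : IrrCharacter G → Finset (ZMod p) := fun Θ => (S Θ).image ex with hA
  have hAc : ∀ Θ ∈ X, (A Θ).card = e := fun Θ hΘ => by
    rw [hA, Finset.card_image_of_injective _ hinj, (hvX Θ hΘ).1]
  have hA0 : ∀ Θ ∈ X, (0 : ZMod p) ∉ A Θ := by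
    intro Θ hΘ h0
    obtain ⟨l, hl, hl0⟩ := Finset.mem_image.1 h0
    apply (hvX Θ hΘ).2.1
    have h2 : ex 1 = 0 := by
      have h3 := hex 1
      rw [MonoidHom.one_apply, Units.val_one] at h3
      exact (hψ.zmod_char_eq_one_iff p _).1 h3.symm
    rw [← h2] at hl0
    rw [← hinj hl0]
    exact hl
  -- the values
  have hval : ∀ Θ ∈ X, ∀ k : ZMod p, k ≠ 0 → (Θ : G → ℂ) (x ^ k.val) = d * ∑ a ∈ A Θ, ψ (a * k) := by
    intro Θ hΘ k hk
    have h2 := (hvX Θ hΘ).2.2 (⟨x, hx⟩ ^ k.val) (fun h3 => hk (by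
      have h4 : x ^ k.val = x ^ 0 := by
        rw [pow_zero]
        exact congrArg Subtype.val h3
      rw [pow_val_eq ho] at h4
      simpa using h4))
    rw [Subgroup.coe_pow] at h2
    rw [h2, hA, Finset.sum_image fun a _ b _ h => hinj h]
    congr 1
    exact Finset.sum_congr rfl fun l _ => hexk l k
  -- stability
  have hstab : ∀ Θ ∈ X, ∀ h ∈ HH p e, ∀ a ∈ A Θ, a * h ∈ A Θ := by
    intro Θ hΘ h hh a ha
    have hh0 : h ≠ 0 := by
      rintro rfl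
      rw [mem_HH, zero_pow he0] at hh
      exact zero_ne_one hh
    have h2 : (A Θ).image (fun a => a * h) = A Θ := by
      apply eq_of_sums hψ
      intro k
      rw [Finset.sum_image fun a _ b _ hab => mul_right_cancel₀ hh0 hab]
      by_cases hk : k = 0
      · subst hk
        simp
      · apply mul_left_cancel₀ hd0
        have h3 := hval Θ hΘ (h * k) (mul_ne_zero hh0 hk)
        obtain ⟨n, hn⟩ := hnorm h hh
        rw [pow_val_mul ho, ← hn, conj_pow, Core.isIrr_isClassFunction Θ.2 (x ^ k.val) n, hval Θ hΘ k hk] at h3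
        rw [h3]
        congr 1
        refine Finset.sum_congr rfl fun a _ => ?_
        rw [mul_assoc]
    rw [← h2]
    exact Finset.mem_image_of_mem _ ha
  have hcos : ∀ Θ ∈ X, ∀ a ∈ A Θ, (HH p e).image (fun h => a * h) = A Θ := by
    intro Θ hΘ a ha
    have ha0 : a ≠ 0 := fun h => hA0 Θ hΘ (h ▸ ha)
    apply Finset.eq_of_subset_of_card_le
    · intro b hb
      obtain ⟨h, hh, rfl⟩ := Finset.mem_image.1 hb
      exact hstab Θ hΘ h hh a ha
    · rw [Finset.card_image_of_injective _ (mul_right_injective₀ ha0), hcard, hAc Θ hΘ]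
  have heta : ∀ Θ ∈ X, ∀ a ∈ A Θ, ‖∑ h ∈ HH p e, ψ (a * h)‖ = ‖(Θ : G → ℂ) x‖ := by
    intro Θ hΘ a ha
    have ha0 : a ≠ 0 := fun h => hA0 Θ hΘ (h ▸ ha)
    have h2 : ∑ h ∈ HH p e, ψ (a * h) = ∑ b ∈ A Θ, ψ b := by
      rw [← hcos Θ hΘ a ha, Finset.sum_image fun b _ c _ h => mul_right_injective₀ ha0 h]
    have h3 := hval Θ hΘ 1 one_ne_zero
    have h4 : x ^ (1 : ZMod p).val = x := by
      have := (pow_val_eq ho (k := (1 : ZMod p)) (n := 1)).2 (by simp)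
      rw [this, pow_one]
    simp only [h4, mul_one] at h3
    rw [h2, h3, norm_mul, hd1, one_mul]
  -- covering
  have hcov : X.biUnion A = Finset.univ.erase 0 := by
    apply Finset.eq_of_subset_of_card_le
    · intro a ha
      obtain ⟨Θ, hΘ, ha⟩ := Finset.mem_biUnion.1 ha
      exact Finset.mem_erase.2 ⟨fun h => hA0 Θ hΘ (h ▸ ha), Finset.mem_univ _⟩
    · rw [Finset.card_biUnion, Finset.sum_congr rfl hAc, Finset.sum_const, hX, smul_eq_mul,
        Finset.card_erase_of_mem (Finset.mem_univ _), Finset.card_univ, ZMod.card, ← ht, mul_comm]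
      intro Θ hΘ Θ' hΘ' hne
      exact (Finset.disjoint_image hinj).2 (hXd Θ hΘ Θ' hΘ' hne)
  have hsum := sum_four hψ (HH p e)
  rw [← Finset.add_sum_erase Finset.univ _ (Finset.mem_univ (0 : ZMod p)), ← hcov, Finset.sum_biUnion] at hsum
  · have h5 : ∀ Θ ∈ X, ∑ a ∈ A Θ, ‖∑ h ∈ HH p e, ψ (a * h)‖ ^ 4 = (e : ℝ) * ‖(Θ : G → ℂ) x‖ ^ 4 := by
      intro Θ hΘ
      rw [Finset.sum_congr rfl fun a ha => by rw [heta Θ hΘ a ha], Finset.sum_const, hAc Θ hΘ, nsmul_eq_mul]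
    rw [Finset.sum_congr rfl h5, ← Finset.mul_sum] at hsum
    have h6 : ‖∑ h ∈ HH p e, ψ (0 * h)‖ ^ 4 = (e : ℝ) ^ 4 := by
      simp [hcard]
    rw [h6, en_eq] at hsum
    have h7 : ∑ χ ∈ NE ∪ X, ‖(χ : G → ℂ) x‖ ^ 4 = e + ∑ Θ ∈ X, ‖(Θ : G → ℂ) x‖ ^ 4 := by
      rw [Finset.sum_union hdis]
      congr 1
      rw [Finset.sum_congr rfl (g := fun _ => (1 : ℝ)), Finset.sum_const, hNE, nsmul_eq_mul, mul_one]
      intro χ hχ
      rw [hv χ hχ x hx hx1]
      rcases hε χ hχ with h | h <;> rw [h] <;> simp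
    rw [h7]
    linear_combination hsum
  · intro Θ hΘ Θ' hΘ' hne
    exact (Finset.disjoint_image hinj).2 (hXd Θ hΘ Θ' hΘ' hne)

end Cfsg.Agent.H113.QS
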