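import Cfsg.Agent.H686.CharKit
import Cfsg.Agent.CharDeep.DegreeBound
import Cfsg.Agent.SmallSimple.SelfCentSum
import Cfsg.Agent.H51.Mult

/-!
# Central characters (helper113, tool for S2491, S2492)

`Z` central in `L`:
* `Lies Z θ χ` : `χ (g z) = χ g θ z`; `exists_lies`, `Lies.unique`;
* `sum_split` : a sum over the irreducible characters is the sum over the central characters;
* `sum_lies_sq_le` : `∑_{χ over θ} ‖χ g‖² ≤ |C_K(π g)|`.
-/

set_option autoImplicit false
set_option linter.unusedSectionVars false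

namespace Cfsg.Agent.H113.QS

open Cfsg Cfsg.Agent.Characters Subgroup
open scoped ComplexConjugate

universe u v

variable {L : Type u} [Group L] {K : Type v} [Group K]

/-- `χ` lies over the central character `θ`. -/
def Lies (Z : Subgroup L) (θ : Z → ℂ) (χ : L → ℂ) : Prop := ∀ (g : L) (z : Z), χ (g * z) = χ g * θ z

variable {Z : Subgroup L}

theorem Lies.one_mul {θ : Z → ℂ} {χ : L → ℂ} (h : Lies Z θ χ) (z : Z) : χ z = χ 1 * θ z := by
  have := h 1 z
  rwa [_root_.one_mul] at this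

variable [Finite L]

omit [Finite L] in
theorem irr_one_ne (χ : IrrCharacter L) : (χ : L → ℂ) 1 ≠ 0 := by
  obtain ⟨n, hn, h⟩ := Core.isIrr_apply_one χ.2
  rw [h]
  have : n ≠ 0 := by omega
  exact_mod_cast this

omit [Finite L] in
theorem Lies.unique {θ θ' : IrrCharacter Z} {χ : IrrCharacter L} (h : Lies Z (θ : Z → ℂ) (χ : L → ℂ))
    (h' : Lies Z (θ' : Z → ℂ) (χ : L → ℂ)) : θ = θ' := by
  apply Subtype.ext
  funext z
  have h1 := h.one_mul z
  have h2 := h'.one_mul z
  rw [h1] at h2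
  exact mul_left_cancel₀ (irr_one_ne χ) h2

theorem exists_lies (hZ : Z ≤ center L) (χ : IrrCharacter L) : ∃ θ : IrrCharacter Z, Lies Z (θ : Z → ℂ) (χ : L → ℂ) := by
  have := Fintype.ofFinite L
  have h1 := irr_one_ne χ
  have hw : ∀ z : Z, ∃ w : ℂ, ‖w‖ = 1 ∧ ∀ g, (χ : L → ℂ) (g * z) = w * (χ : L → ℂ) g :=
    fun z => CharDeep.DegreeBound.exists_omega χ.2 (hZ z.2)
  choose w hw1 hw2 using hw
  have hw0 : ∀ z, w z ≠ 0 := fun z h => by
    have := hw1 z
    rw [h, norm_zero] at this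
    exact zero_ne_one this
  have hmul : ∀ a b, w (a * b) = w a * w b := by
    intro a b
    apply mul_right_cancel₀ h1
    have h3 := hw2 (a * b) 1
    have h4 := hw2 b (1 * a)
    have h5 := hw2 a 1
    rw [← h3, mul_assoc (w a), mul_left_comm, ← h5, ← h4, Subgroup.coe_mul, mul_assoc]
  let f : Z →* ℂˣ :=
    { toFun := fun z => Units.mk0 (w z) (hw0 z)
      map_one' := by
        ext
        have := hmul 1 1
        rw [mul_one] at this
        have h6 : w 1 = 1 := by
          have h7 : w 1 * 1 = w 1 * w 1 := by rw [mul_one]; exact this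
          exact (mul_left_cancel₀ (hw0 1) h7).symm
        simpa using h6
      map_mul' := fun a b => by
        ext
        simpa using hmul a b }
  refine ⟨⟨fun z => (f z : ℂ), Linear.isIrrCharacter_hom f⟩, fun g z => ?_⟩
  rw [hw2 z g, mul_comm]
  rfl

theorem theta_norm (hZ : Z ≤ center L) (θ : IrrCharacter Z) (z : Z) : ‖(θ : Z → ℂ) z‖ = 1 := by
  have h1 : (θ : Z → ℂ) 1 = 1 := SmallSimple.SelfCentSum.irr_apply_one_of_comm
    (fun a b => Subtype.ext (mem_center_iff.1 (hZ b.2) a)) θ.2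
  obtain ⟨f, hf⟩ := Linear.exists_hom_of_isIrrCharacter θ.2 h1
  rw [hf]
  exact Linear.norm_hom_apply f z

theorem theta_one (hZ : Z ≤ center L) (θ : IrrCharacter Z) : (θ : Z → ℂ) 1 = 1 :=
  SmallSimple.SelfCentSum.irr_apply_one_of_comm (fun a b => Subtype.ext (mem_center_iff.1 (hZ b.2) a)) θ.2

open Classical in
/-- the characters over `θ` -/
noncomputable def ov [Fintype (IrrCharacter L)] (Z : Subgroup L) (θ : Z → ℂ) : Finset (IrrCharacter L) :=
  Finset.univ.filter fun χ => Lies Z θ (χ : L → ℂ)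

omit [Finite L] in
theorem mem_ov [Fintype (IrrCharacter L)] {θ : Z → ℂ} {χ : IrrCharacter L} : χ ∈ ov Z θ ↔ Lies Z θ (χ : L → ℂ) := by
  classical
  rw [ov, Finset.mem_filter]
  exact ⟨fun h => h.2, fun h => ⟨Finset.mem_univ _, h⟩⟩

theorem sum_split [Fintype (IrrCharacter L)] [Fintype (IrrCharacter Z)] (hZ : Z ≤ center L) {M : Type*}
    [AddCommMonoid M] (f : IrrCharacter L → M) : ∑ χ, f χ = ∑ θ : IrrCharacter Z, ∑ χ ∈ ov Z (θ : Z → ℂ), f χ := by
  classical
  choose Θ hΘ using exists_lies (L := L) hZ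
  rw [← Finset.sum_fiberwise (s := Finset.univ) (g := Θ)]
  refine Finset.sum_congr rfl fun θ _ => ?_
  refine Finset.sum_congr ?_ fun _ _ => rfl
  ext χ
  rw [Finset.mem_filter, mem_ov]
  constructor
  · rintro ⟨-, rfl⟩
    exact hΘ χ
  · intro h
    exact ⟨Finset.mem_univ _, (hΘ χ).unique h⟩

/-- the central multiples of `g` in its class -/
def tr (Z : Subgroup L) (g : L) : Set Z := {z | IsConj g (g * z)}

/-- counting in the preimage of the centralizer -/
theorem card_mul_le [Finite K] {π : L →* K} (hs : Function.Surjective π) (g : L) :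
    Nat.card (centralizer ({g} : Set L)) * Nat.card (tr π.ker g) ≤
      Nat.card π.ker * Nat.card (centralizer ({π g} : Set K)) := by
  classical
  have hy : ∀ z : tr π.ker g, ∃ y : L, y * g * y⁻¹ = g * (z : π.ker) := fun z => isConj_iff.1 z.2
  choose y hy using hy
  let s : K → L := Function.surjInv hs
  have hsπ : ∀ k, π (s k) = k := Function.surjInv_eq hs
  rw [← Nat.card_prod, ← Nat.card_prod]
  refine Nat.card_le_card_of_injective (fun a : (centralizer ({g} : Set L)) × (tr π.ker g) =>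
    ((⟨y a.2 * a.1 * (s (π (y a.2 * a.1)))⁻¹, ?_⟩ : π.ker),
      (⟨π (y a.2 * a.1), ?_⟩ : (centralizer ({π g} : Set K))))) ?_
  · rw [MonoidHom.mem_ker, map_mul _ (y a.2 * a.1), map_inv, hsπ, mul_inv_cancel]
  · rw [mem_centralizer_singleton_iff]
    have h1 : (a.1 : L) * g = g * (a.1 : L) := mem_centralizer_singleton_iff.1 a.1.2
    have h2 : y a.2 * g = g * (a.2 : π.ker) * y a.2 := by rw [← hy a.2]; group
    have h3 : π ((a.2 : π.ker) : L) = 1 := (a.2 : π.ker).2
    rw [← map_mul, ← map_mul]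
    calc π (y a.2 * a.1 * g) = π (y a.2 * g * a.1) := by rw [mul_assoc, h1, ← mul_assoc]
      _ = π (g * (y a.2 * a.1)) := by
        rw [h2, mul_assoc (g * _), map_mul, map_mul π g ((a.2 : π.ker) : L), h3, mul_one, ← map_mul]
  · rintro ⟨c, z⟩ ⟨c', z'⟩ h
    have h1 := congrArg Prod.fst h
    have h2 := congrArg Prod.snd h
    have h1 : y z * c * (s (π (y z * c)))⁻¹ = y z' * c' * (s (π (y z' * c')))⁻¹ := congrArg Subtype.val h1
    have h2 : π (y z * c) = π (y z' * c') := congrArg Subtype.val h2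
    rw [h2] at h1
    have h3 : y z * (c : L) = y z' * (c' : L) := mul_right_cancel h1
    have h4 : ∀ (z : tr π.ker g) (c : centralizer ({g} : Set L)), y z * c * g * (y z * c)⁻¹ = g * (z : π.ker) := by
      intro z c
      have h5 : (c : L) * g = g * (c : L) := mem_centralizer_singleton_iff.1 c.2
      rw [← hy z]
      calc y z * (c : L) * g * (y z * (c : L))⁻¹ = y z * ((c : L) * g) * (c : L)⁻¹ * (y z)⁻¹ := by group
        _ = y z * g * (y z)⁻¹ := by rw [h5]; group
    have h6 := h4 z c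
    rw [h3, h4 z' c'] at h6
    have h7 : z' = z := Subtype.ext (Subtype.ext (mul_left_cancel h6))
    subst h7
    exact Prod.ext (Subtype.ext (mul_left_cancel h3)) rfl

/-- **The second moment over a central character.** -/
theorem sum_lies_sq_le [Finite K] [Fintype (IrrCharacter L)] {π : L →* K} (hs : Function.Surjective π)
    (hc : π.ker ≤ center L) (θ : IrrCharacter π.ker) (g : L) :
    ∑ χ ∈ ov π.ker (θ : π.ker → ℂ), ‖(χ : L → ℂ) g‖ ^ 2 ≤ (Nat.card (centralizer ({π g} : Set K)) : ℝ) := by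
  classical
  have := Fintype.ofFinite L
  have := Fintype.ofFinite π.ker
  have : Finite (IrrCharacter π.ker) := Core.finite_irr
  have := Fintype.ofFinite (IrrCharacter π.ker)
  choose Θ hΘ using exists_lies (L := L) hc
  have hm0 : (0 : ℝ) < (Nat.card π.ker : ℝ) := by exact_mod_cast Nat.card_pos
  -- the sum over `z`
  have h1 : ∑ z : π.ker, conj ((θ : π.ker → ℂ) z) * ∑ χ : IrrCharacter L, (χ : L → ℂ) (g * z) * conj ((χ : L → ℂ) g) =
      (Nat.card π.ker : ℂ) * ∑ χ ∈ ov π.ker (θ : π.ker → ℂ), (χ : L → ℂ) g * conj ((χ : L → ℂ) g) := by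
    simp only [Finset.mul_sum]
    rw [Finset.sum_comm, ov, Finset.sum_filter]
    refine Finset.sum_congr rfl fun χ _ => ?_
    have h2 : ∀ z : π.ker, conj ((θ : π.ker → ℂ) z) * ((χ : L → ℂ) (g * z) * conj ((χ : L → ℂ) g)) =
        (χ : L → ℂ) g * conj ((χ : L → ℂ) g) * ((Θ χ : π.ker → ℂ) z * conj ((θ : π.ker → ℂ) z)) := by
      intro z
      rw [hΘ χ g z]
      ring
    rw [Finset.sum_congr rfl fun z _ => h2 z, ← Finset.mul_sum]
    have h3 : ∑ z : π.ker, (Θ χ : π.ker → ℂ) z * conj ((θ : π.ker → ℂ) z) = if Θ χ = θ then (Nat.card π.ker : ℂ) else 0 := by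
      have hcard : (Nat.card π.ker : ℂ) ≠ 0 := by exact_mod_cast Nat.card_pos.ne'
      split_ifs with h
      · have h4 := Core.classInner_irr_self θ.2
        rw [classInner, inv_mul_eq_one₀ hcard, eq_comm] at h4
        rw [h]
        exact h4
      · have h4 := Core.classInner_irr_ne (Θ χ).2 θ.2 fun h5 => h (Subtype.ext h5)
        rw [classInner] at h4
        rcases mul_eq_zero.1 h4 with h5 | h5
        · exact absurd (inv_eq_zero.1 h5) hcard
        · exact h5
    rw [h3]
    by_cases h : Θ χ = θ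
    · rw [if_pos h, if_pos (h ▸ hΘ χ)]; ring
    · rw [if_neg h, if_neg fun h5 => h ((hΘ χ).unique h5)]; ring
  have h2 : ((Nat.card π.ker : ℝ) * ∑ χ ∈ ov π.ker (θ : π.ker → ℂ), ‖(χ : L → ℂ) g‖ ^ 2 : ℝ) =
      ‖∑ z : π.ker, conj ((θ : π.ker → ℂ) z) * ∑ χ : IrrCharacter L, (χ : L → ℂ) (g * z) * conj ((χ : L → ℂ) g)‖ := by
    rw [h1, norm_mul, Complex.norm_natCast]
    congr 1
    have h3 : (∑ χ ∈ ov π.ker (θ : π.ker → ℂ), (χ : L → ℂ) g * conj ((χ : L → ℂ) g)) =
        ((∑ χ ∈ ov π.ker (θ : π.ker → ℂ), ‖(χ : L → ℂ) g‖ ^ 2 : ℝ) : ℂ) := by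
      push_cast
      refine Finset.sum_congr rfl fun χ _ => ?_
      rw [Complex.mul_conj, Complex.normSq_eq_norm_sq]
      push_cast
      rfl
    rw [h3, Complex.norm_real, Real.norm_of_nonneg (Finset.sum_nonneg fun _ _ => by positivity)]
  have h3 : ‖∑ z : π.ker, conj ((θ : π.ker → ℂ) z) * ∑ χ : IrrCharacter L, (χ : L → ℂ) (g * z) * conj ((χ : L → ℂ) g)‖ ≤
      ∑ z : π.ker, if IsConj g (g * z) then (Nat.card (centralizer ({g} : Set L)) : ℝ) else 0 := by
    refine (norm_sum_le _ _).trans (Finset.sum_le_sum fun z _ => ?_)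
    rw [H686.CharKit.col_orth, norm_mul, RCLike.norm_conj, theta_norm hc θ z, _root_.one_mul]
    by_cases h : IsConj g (g * z)
    · rw [if_pos h, if_pos h.symm, Complex.norm_natCast]
    · rw [if_neg h, if_neg fun h5 => h h5.symm, norm_zero]
  have h4 : (∑ z : π.ker, if IsConj g (g * z) then (Nat.card (centralizer ({g} : Set L)) : ℝ) else 0) =
      (Nat.card (centralizer ({g} : Set L)) : ℝ) * Nat.card (tr π.ker g) := by
    rw [← Finset.sum_filter, Finset.sum_const, nsmul_eq_mul, mul_comm]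
    congr 2
    rw [tr, Nat.card_eq_fintype_card, Fintype.card_subtype]
    rfl
  rw [← h2, h4] at h3
  have h5 : ((Nat.card (centralizer ({g} : Set L)) * Nat.card (tr π.ker g) : ℕ) : ℝ) ≤
      ((Nat.card π.ker * Nat.card (centralizer ({π g} : Set K)) : ℕ) : ℝ) := by
    exact_mod_cast card_mul_le hs g
  push_cast at h5
  exact le_of_mul_le_mul_left (h3.trans h5) hm0

/-- **Orthogonality over a central character.** -/
theorem orth_lies [Fintype (IrrCharacter L)] {π : L →* K} (hc : π.ker ≤ center L) (θ : IrrCharacter π.ker) {g h : L}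
    (hgh : ∀ z : π.ker, ¬ IsConj (g * z) h) :
    ∑ χ ∈ ov π.ker (θ : π.ker → ℂ), (χ : L → ℂ) g * conj ((χ : L → ℂ) h) = 0 := by
  classical
  have := Fintype.ofFinite L
  have := Fintype.ofFinite π.ker
  choose Θ hΘ using exists_lies (L := L) hc
  have hcard : (Nat.card π.ker : ℂ) ≠ 0 := by exact_mod_cast Nat.card_pos.ne'
  have h1 : ∑ z : π.ker, conj ((θ : π.ker → ℂ) z) * ∑ χ : IrrCharacter L, (χ : L → ℂ) (g * z) * conj ((χ : L → ℂ) h) =
      (Nat.card π.ker : ℂ) * ∑ χ ∈ ov π.ker (θ : π.ker → ℂ), (χ : L → ℂ) g * conj ((χ : L → ℂ) h) := by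
    simp only [Finset.mul_sum]
    rw [Finset.sum_comm, ov, Finset.sum_filter]
    refine Finset.sum_congr rfl fun χ _ => ?_
    have h2 : ∀ z : π.ker, conj ((θ : π.ker → ℂ) z) * ((χ : L → ℂ) (g * z) * conj ((χ : L → ℂ) h)) =
        (χ : L → ℂ) g * conj ((χ : L → ℂ) h) * ((Θ χ : π.ker → ℂ) z * conj ((θ : π.ker → ℂ) z)) := by
      intro z
      rw [hΘ χ g z]
      ring
    rw [Finset.sum_congr rfl fun z _ => h2 z, ← Finset.mul_sum]
    have h3 : ∑ z : π.ker, (Θ χ : π.ker → ℂ) z * conj ((θ : π.ker → ℂ) z) = if Θ χ = θ then (Nat.card π.ker : ℂ) else 0 := by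
      split_ifs with h
      · have h4 := Core.classInner_irr_self θ.2
        rw [classInner, inv_mul_eq_one₀ hcard, eq_comm] at h4
        rw [h]
        exact h4
      · have h4 := Core.classInner_irr_ne (Θ χ).2 θ.2 fun h5 => h (Subtype.ext h5)
        rw [classInner] at h4
        rcases mul_eq_zero.1 h4 with h5 | h5
        · exact absurd (inv_eq_zero.1 h5) hcard
        · exact h5
    rw [h3]
    by_cases h : Θ χ = θ
    · rw [if_pos h, if_pos (h ▸ hΘ χ)]; ring
    · rw [if_neg h, if_neg fun h5 => h ((hΘ χ).unique h5)]; ring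
  have h2 : ∑ z : π.ker, conj ((θ : π.ker → ℂ) z) * ∑ χ : IrrCharacter L, (χ : L → ℂ) (g * z) * conj ((χ : L → ℂ) h) = 0 := by
    refine Finset.sum_eq_zero fun z _ => ?_
    rw [H686.CharKit.col_orth, if_neg (hgh z), mul_zero]
  rw [h2] at h1
  exact (mul_eq_zero.1 h1.symm).resolve_left hcard

end Cfsg.Agent.H113.QS
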