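import Cfsg.Agent.H113.QS.SieveZ
import Cfsg.Agent.Blocks.SylowIn

/-!
# The sieve data of a central extension of a simple group (helper113, tool C4 for S2491, S2492)

* `SZ.lift` : `K` simple, `x₀` of order `p` with `|C(x₀)| = p`, the numerical check of `H65.Ore.sc_of`; `π : L →* K` onto with
  central kernel of order prime to `p`: `SZ L π.ker p S`, and `x₀` has a lift of order `p`;
* `deg_base` : the degrees over the trivial central character are the degrees of `K`;
* `card_irr_ker` : `|Irr Z| = |Z|`;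
* `SZ.prd_two` : the sieve with two bounds `d₁`, `d₂` and a numerical check.
-/

set_option autoImplicit false
set_option linter.unusedSectionVars false

namespace Cfsg.Agent.H113.QS

open Cfsg Cfsg.Agent.Characters Subgroup Cfsg.Agent.H65.Ore
open Cfsg.Agent.SmallSimple.ThetaSetup
open scoped ComplexConjugate

universe u v

variable {L : Type u} [Group L] [Finite L] {K : Type v} [Group K] [Finite K] {π : L →* K}

/-- a lift of order `p` -/
theorem exists_lift (hs : Function.Surjective π) {p : ℕ} (hp : p.Prime)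
    (hZ : ¬ p ∣ Nat.card π.ker) {x₀ : K} (hx : orderOf x₀ = p) : ∃ x : L, orderOf x = p ∧ π x = x₀ := by
  obtain ⟨y, hy⟩ := hs x₀
  have hcop : p.Coprime (Nat.card π.ker) := (hp.coprime_iff_not_dvd).2 hZ
  obtain ⟨m, hm1, hm2⟩ := Nat.chineseRemainder hcop 1 0
  have h1 : π (y ^ m) = x₀ := by
    rw [map_pow, hy]
    have h2 : x₀ ^ m = x₀ ^ 1 := by
      rw [pow_eq_pow_iff_modEq, hx]
      exact hm1
    rw [h2, pow_one]
  have h3 : y ^ p ∈ π.ker := by
    rw [MonoidHom.mem_ker, map_pow, hy, ← hx, pow_orderOf_eq_one]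
  have h4 : (y ^ p) ^ m = 1 := by
    obtain ⟨k, hk⟩ := (Nat.modEq_zero_iff_dvd).1 hm2
    have h5 : (⟨y ^ p, h3⟩ : π.ker) ^ Nat.card π.ker = 1 := pow_card_eq_one'
    have h6 : (y ^ p) ^ Nat.card π.ker = 1 := congrArg Subtype.val h5
    rw [hk, pow_mul, h6, one_pow]
  refine ⟨y ^ m, ?_, h1⟩
  have : Fact p.Prime := ⟨hp⟩
  apply orderOf_eq_prime
  · rw [← pow_mul, mul_comm, pow_mul, h4]
  · intro h5
    rw [h5, map_one] at h1
    rw [← h1, orderOf_one] at hx
    exact hp.one_lt.ne hx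

theorem card_eq_mul (hs : Function.Surjective π) : Nat.card L = Nat.card π.ker * Nat.card K := by
  have h1 := Subgroup.card_mul_index π.ker
  rw [← h1, Subgroup.index_ker, Nat.card_congr (MonoidHom.range_eq_top.2 hs ▸ Subgroup.topEquiv.toEquiv : π.range ≃ K)]

theorem eq_one_of_ker {p : ℕ} (hp : p.Prime) (hZ : ¬ p ∣ Nat.card π.ker) {z : L} (hz : z ∈ π.ker) (hzp : z ^ p = 1) :
    z = 1 := by
  by_contra h
  apply hZ
  have h1 : orderOf (⟨z, hz⟩ : π.ker) = p := by
    have : Fact p.Prime := ⟨hp⟩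
    exact orderOf_eq_prime (Subtype.ext hzp) fun h2 => h (congrArg Subtype.val h2)
  rw [← h1]
  exact orderOf_dvd_natCard _

theorem eq_one_of_ker' {p : ℕ} (hp : p.Prime) (hZ : ¬ p ∣ Nat.card π.ker) {z : L} (hz : z ∈ π.ker) (hzp : orderOf z = p) :
    False := by
  have h1 := eq_one_of_ker hp hZ hz (by rw [← hzp]; exact pow_orderOf_eq_one z)
  rw [h1, orderOf_one] at hzp
  exact hp.one_lt.ne hzp

/-- The Sylow subgroup of a central extension of a simple group with a self-centralizing exact prime. -/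
theorem setupZ [IsSimpleGroup K] (hK : ¬ IsMulCommutative K) (hs : Function.Surjective π) (hc : π.ker ≤ center L)
    {p : ℕ} (hp : p.Prime) {N : ℕ} (hN : Nat.card K = N) {x₀ : K} (hx : orderOf x₀ = p)
    (hcx : Nat.card (centralizer ({x₀} : Set K)) = p) (hZ : ¬ p ∣ Nat.card π.ker) (e t S : ℕ)
    (hnum : chkSC N p e t S = true) :
    e * t = p - 1 ∧ e ^ 2 + p * enr p e ≤ e * S + e ^ 4 ∧ (∀ y : K, orderOf y = p → Nat.card (centralizer ({y} : Set K)) = p) ∧
      ∃ P : Sylow p L, Nat.card (P : Subgroup L) = p ∧ IsComp p (P : Subgroup L) π.ker ∧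
      (centralizer ((P : Subgroup L) : Set L)).relIndex (normalizer ((P : Subgroup L) : Set L)) = e ∧
      ∀ y : L, orderOf y = p → ∃ z ∈ (P : Subgroup L), z ≠ 1 ∧ IsConj y z := by
  classical
  have hpF : Fact p.Prime := ⟨hp⟩
  obtain ⟨hp2, ht, hS, he0, P₀, hP₀, hC₀, hrel, hconj⟩ := setup hK hp hN hx hcx e t S hnum
  obtain ⟨x₁, hx₁, -, hxx⟩ := hconj x₀ hx
  have hP0' : Nat.card (P₀ : Subgroup K) = p := hP₀
  have hC0' : centralizer ((P₀ : Subgroup K) : Set K) = (P₀ : Subgroup K) := hC₀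
  have ho₁ : orderOf x₁ = p := by
    rw [← hx]
    obtain ⟨c, rfl⟩ := isConj_iff.1 hxx
    have := orderOf_injective (MulAut.conj c).toMonoidHom (MulAut.conj c).injective x₀
    simpa using this
  obtain ⟨x, hxo, hxπ⟩ := exists_lift hs hp hZ ho₁
  have hPz : (P₀ : Subgroup K) = zpowers x₁ := by
    symm
    apply Subgroup.eq_of_le_of_card_ge
    · rw [zpowers_le]; exact hx₁
    · rw [Nat.card_zpowers, ho₁]
      exact hP0'.le
  -- the Sylow subgroup of `L`
  have hcL : ¬ p ^ 2 ∣ Nat.card L := by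
    intro h
    rw [card_eq_mul hs] at h
    have h1 : p ^ 2 ∣ Nat.card K := (Nat.Coprime.pow_left 2 ((hp.coprime_iff_not_dvd).2 hZ)).dvd_of_dvd_mul_left h
    simp only [chkSC, Bool.and_eq_true, Bool.not_eq_true', ← Bool.not_eq_true, Nat.beq_eq] at hnum
    obtain ⟨⟨⟨⟨⟨-, -⟩, hN1⟩, -⟩, -⟩, -⟩ := hnum
    rw [hN] at h1
    exact hN1 (Nat.mod_eq_zero_of_dvd h1)
  have hpL : p ∣ Nat.card L := by rw [← hxo]; exact orderOf_dvd_natCard x
  have hpg : IsPGroup p (zpowers x) := IsPGroup.of_card (n := 1) (by rw [Nat.card_zpowers, hxo, pow_one])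
  obtain ⟨P, hxP⟩ := hpg.exists_le_sylow
  have hP : Nat.card (P : Subgroup L) = p := SmallSimple.PrimeLocal.card_of_not_sq_dvd hpL hcL P
  have hPx : (P : Subgroup L) = zpowers x := by
    symm
    apply Subgroup.eq_of_le_of_card_ge hxP
    rw [Nat.card_zpowers, hxo]
    exact hP.le
  have hmap : (P : Subgroup L).map π = (P₀ : Subgroup K) := by
    rw [hPx, hPz, MonoidHom.map_zpowers, hxπ]
  have hxx' : ∀ u v : L, u ∈ (P : Subgroup L) → v ∈ (P : Subgroup L) → u * v = v * u := by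
    intro u v hu hv
    rw [hPx] at hu hv
    obtain ⟨i, rfl⟩ := mem_zpowers_iff.1 hu
    obtain ⟨j, rfl⟩ := mem_zpowers_iff.1 hv
    rw [← zpow_add, ← zpow_add, add_comm]
  -- centralizer
  have hcent : centralizer ((P : Subgroup L) : Set L) = (centralizer ((P₀ : Subgroup K) : Set K)).comap π := by
    apply le_antisymm
    · intro y hy
      rw [mem_comap, mem_centralizer_iff]
      intro k hk
      have hk' : k ∈ (P : Subgroup L).map π := by rw [hmap]; exact hk
      obtain ⟨u, hu, rfl⟩ := hk'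
      rw [← map_mul, ← map_mul, mem_centralizer_iff.1 hy u hu]
    · intro y hy
      rw [mem_comap, hC0', ← hmap] at hy
      obtain ⟨u, hu, huy⟩ := hy
      have h1 : u⁻¹ * y ∈ π.ker := by rw [MonoidHom.mem_ker, map_mul, map_inv, huy, inv_mul_cancel]
      have h2 : y = u * (u⁻¹ * y) := by group
      rw [h2]
      refine mul_mem ?_ (center_le_centralizer _ (hc h1))
      rw [mem_centralizer_iff]
      intro v hv
      exact hxx' v u hv hu
  -- normalizer
  have hnorm : normalizer ((P : Subgroup L) : Set L) = (normalizer ((P₀ : Subgroup K) : Set K)).comap π := by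
    apply le_antisymm
    · intro y hy
      rw [mem_comap]
      apply Subgroup.mem_normalizer_fintype
      intro k hk
      have hk' : k ∈ (P : Subgroup L).map π := by rw [hmap]; exact hk
      obtain ⟨u, hu, rfl⟩ := hk'
      have h1 := (Subgroup.mem_normalizer_iff.1 hy u).1 hu
      have h2 : π (y * u * y⁻¹) ∈ (P : Subgroup L).map π := mem_map_of_mem π h1
      rw [hmap, map_mul, map_mul, map_inv] at h2
      exact h2
    · intro y hy
      rw [mem_comap] at hy
      apply Subgroup.mem_normalizer_fintype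
      intro u hu
      have h1 : π u ∈ (P₀ : Subgroup K) := by rw [← hmap]; exact mem_map_of_mem π hu
      have h2 := (Subgroup.mem_normalizer_iff.1 hy (π u)).1 h1
      have h3 : π (y * u * y⁻¹) ∈ (P : Subgroup L).map π := by
        rw [hmap, map_mul, map_mul, map_inv]; exact h2
      obtain ⟨w, hw, hwy⟩ := h3
      have h4 : w⁻¹ * (y * u * y⁻¹) ∈ π.ker := by
        rw [MonoidHom.mem_ker, map_mul, map_inv, hwy, inv_mul_cancel]
      have hup : ∀ v ∈ (P : Subgroup L), v ^ p = 1 := by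
        intro v hv
        have h5 : (⟨v, hv⟩ : (P : Subgroup L)) ^ Nat.card (P : Subgroup L) = 1 := pow_card_eq_one'
        rw [hP] at h5
        exact congrArg Subtype.val h5
      have h5 : w⁻¹ * (y * u * y⁻¹) = 1 := by
        apply eq_one_of_ker hp hZ h4
        have h6 : Commute w (w⁻¹ * (y * u * y⁻¹)) := mem_center_iff.1 (hc h4) w
        have h7 : (w * (w⁻¹ * (y * u * y⁻¹))) ^ p = 1 := by
          have h8 : w * (w⁻¹ * (y * u * y⁻¹)) = y * u * y⁻¹ := by group
          rw [h8, conj_pow, hup u hu, mul_one, mul_inv_cancel]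
        rw [h6.mul_pow, hup w hw, _root_.one_mul] at h7
        exact h7
      have h6 : y * u * y⁻¹ = w := (inv_mul_eq_one.1 h5).symm
      show y * u * y⁻¹ ∈ (P : Subgroup L)
      rw [h6]
      exact hw
  have hrel' : (centralizer ((P : Subgroup L) : Set L)).relIndex (normalizer ((P : Subgroup L) : Set L)) = e := by
    rw [hcent, hnorm, Subgroup.relIndex_comap, Subgroup.map_comap_eq_self_of_surjective hs]
    exact hrel
  -- the complement
  have hcomp : IsComp p (P : Subgroup L) π.ker := by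
    intro y
    constructor
    · intro hy
      refine ⟨center_le_centralizer _ (hc hy), fun h => hZ (h.trans ?_)⟩
      have h1 : orderOf (⟨y, hy⟩ : π.ker) = orderOf y := by rw [← Subgroup.orderOf_coe]
      rw [← h1]
      exact orderOf_dvd_natCard _
    · rintro ⟨hy, hyp⟩
      rw [hcent, mem_comap, hC0'] at hy
      rw [MonoidHom.mem_ker]
      by_contra h1
      apply hyp
      rw [← order_eq (P := (P₀ : Subgroup K)) hP0' hy h1]
      exact orderOf_map_dvd π y
  -- conjugacy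
  have hconj' : ∀ y : L, orderOf y = p → ∃ z ∈ (P : Subgroup L), z ≠ 1 ∧ IsConj y z := by
    intro y hy
    have hpg' : IsPGroup p (zpowers y) := IsPGroup.of_card (n := 1) (by rw [Nat.card_zpowers, hy, pow_one])
    obtain ⟨Q, hyQ⟩ := hpg'.exists_le_sylow
    obtain ⟨g, hg⟩ := MulAction.exists_smul_eq L Q P
    refine ⟨g * y * g⁻¹, ?_, ?_, isConj_iff.2 ⟨g, rfl⟩⟩
    · rw [← hg]
      have := Subgroup.smul_mem_pointwise_smul y (MulAut.conj g) (Q : Subgroup L) (hyQ (mem_zpowers y))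
      exact this
    · intro h
      have h3 : y = 1 := by
        have : g⁻¹ * (g * y * g⁻¹) * g = y := by group
        rw [h] at this
        rw [← this]; group
      rw [h3, orderOf_one] at hy
      exact hp.one_lt.ne hy
  refine ⟨ht, hS, ?_, P, hP, hcomp, hrel', hconj'⟩
  intro y hy
  obtain ⟨z, hzP, hz1, hyz⟩ := hconj y hy
  have h2 : centralizer ({z} : Set K) = (P₀ : Subgroup K) := by
    rw [← hC0', ← zpowers_eq (P := (P₀ : Subgroup K)) hP0' hzP hz1, SmallSimple.SelfCentPrime.centralizer_zpowers]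
  rw [← Blocks.SylowIn.card_centralizer_of_isConj hyz, h2]
  exact hP0'

/-- **The moments in a central extension of a simple group with a self-centralizing exact prime.** -/
theorem SZ.lift [IsSimpleGroup K] (hK : ¬ IsMulCommutative K) (hs : Function.Surjective π) (hc : π.ker ≤ center L)
    {p : ℕ} (hp : p.Prime) {N : ℕ} (hN : Nat.card K = N) {x₀ : K} (hx : orderOf x₀ = p)
    (hcx : Nat.card (centralizer ({x₀} : Set K)) = p) (hZ : ¬ p ∣ Nat.card π.ker) (e t S : ℕ)
    (hnum : chkSC N p e t S = true) : SZ L π.ker p S ∧ ∃ x : L, orderOf x = p ∧ π x = x₀ := by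
  have hpF : Fact p.Prime := ⟨hp⟩
  obtain ⟨ht, hS, -, P, hP, hcomp, hrel, hconj⟩ := setupZ hK hs hc hp hN hx hcx hZ e t S hnum
  exact ⟨SZ.of_sylow hc hcomp hP hrel ht hS hconj, exists_lift hs hp hZ hx⟩

/-- The degrees over the trivial central character. -/
theorem deg_base (hs : Function.Surjective π) (χ : IrrCharacter L) (h : Lies π.ker (one1 π.ker : π.ker → ℂ) (χ : L → ℂ)) :
    ∃ ψ : IrrCharacter K, (χ : L → ℂ) = (ψ : K → ℂ) ∘ π := by
  have h1 : π.ker ≤ H686.CharKit.chKer χ := by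
    intro z hz
    rw [H686.CharKit.mem_chKer]
    have h2 := h 1 ⟨z, hz⟩
    rw [_root_.one_mul] at h2
    rw [h2, one1_apply, mul_one]
  obtain ⟨ψ, hψ⟩ := H686.CharKit.exists_infl π.ker χ h1
  let e' : L ⧸ π.ker ≃* K := QuotientGroup.quotientKerEquivOfSurjective π hs
  refine ⟨⟨(ψ : L ⧸ π.ker → ℂ) ∘ e'.symm.toMonoidHom, Core.isIrr_comp e'.symm.toMonoidHom e'.symm.surjective ψ.2⟩, ?_⟩
  funext g
  rw [← hψ, H686.CharKit.infl_apply]
  show (ψ : L ⧸ π.ker → ℂ) (g : L ⧸ π.ker) = (ψ : L ⧸ π.ker → ℂ) (e'.symm (π g))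
  refine congrArg (ψ : L ⧸ π.ker → ℂ) ?_
  rw [MulEquiv.eq_symm_apply]
  rfl

theorem deg_base_le (hs : Function.Surjective π) {p d : ℕ}
    (hd : ∀ ψ : IrrCharacter K, (ψ : K → ℂ) ≠ 1 → ¬ p ∣ charDegree (ψ : K → ℂ) → d ≤ charDegree (ψ : K → ℂ))
    (χ : IrrCharacter L) (h : Lies π.ker (one1 π.ker : π.ker → ℂ) (χ : L → ℂ)) (h1 : (χ : L → ℂ) ≠ 1)
    (h2 : ¬ p ∣ charDegree (χ : L → ℂ)) : d ≤ charDegree (χ : L → ℂ) := by
  obtain ⟨ψ, hψ⟩ := deg_base hs χ h
  have h3 : charDegree (χ : L → ℂ) = charDegree (ψ : K → ℂ) := by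
    unfold charDegree
    rw [hψ]
    simp
  rw [h3] at h2 ⊢
  apply hd ψ _ h2
  intro h4
  apply h1
  rw [hψ, h4]
  rfl

theorem card_irr_ker (hc : π.ker ≤ center L) : Nat.card (IrrCharacter π.ker) = Nat.card π.ker := by
  have h1 : Nat.card (π.ker →* ℂˣ) = Nat.card π.ker := by
    rw [Linear.card_hom_eq_index_commutator]
    have h2 : commutator π.ker = ⊥ := by
      rw [commutator_def, Subgroup.commutator_eq_bot_iff_le_centralizer]
      intro a _
      rw [mem_centralizer_iff]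
      intro b _
      exact Subtype.ext (mem_center_iff.1 (hc a.2) b)
    rw [h2, index_bot]
  rw [← h1, Nat.card_congr (Linear.linearEquiv π.ker)]
  refine Nat.card_congr ⟨fun χ => ⟨χ, theta_one hc χ⟩, fun χ => χ.1, fun _ => rfl, fun _ => rfl⟩

omit [Finite K] in
/-- a nontrivial central character -/
theorem exists_ne_of_lies {θ : IrrCharacter π.ker} (hθ : θ ≠ one1 π.ker) {χ : IrrCharacter L}
    (h : Lies π.ker (θ : π.ker → ℂ) (χ : L → ℂ)) : ∃ z ∈ π.ker, (χ : L → ℂ) z ≠ (χ : L → ℂ) 1 := by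
  by_contra hno
  push Not at hno
  apply hθ
  apply Subtype.ext
  funext z
  have h1 := h 1 z
  rw [_root_.one_mul, hno z z.2] at h1
  rw [one1_apply]
  have h2 : (χ : L → ℂ) 1 * 1 = (χ : L → ℂ) 1 * (θ : π.ker → ℂ) z := by rw [mul_one]; exact h1
  exact (mul_left_cancel₀ (irr_one_ne χ) h2).symm

/-- **The sieve in `L` with two bounds**: `d₁` for the degrees of `K`, `d₂` for the degrees of the characters that are not
trivial on `Z`. -/
theorem SZ.prd_two {p S : ℕ} (h : SZ L π.ker p S) (hs : Function.Surjective π) (hc : π.ker ≤ center L) {x y g : L}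
    (hx : orderOf x = p) (hy : orderOf y = p) {m d₁ d₂ c : ℕ} (A B : ℕ) (hm : Nat.card π.ker ≤ m)
    (hd₁ : ∀ ψ : IrrCharacter K, (ψ : K → ℂ) ≠ 1 → ¬ p ∣ charDegree (ψ : K → ℂ) → d₁ ≤ charDegree (ψ : K → ℂ))
    (hd₂ : ∀ χ : IrrCharacter L, (∃ z ∈ π.ker, (χ : L → ℂ) z ≠ (χ : L → ℂ) 1) → ¬ p ∣ charDegree (χ : L → ℂ) →
      d₂ ≤ charDegree (χ : L → ℂ))
    (hcard : Nat.card (centralizer ({π g} : Set K)) ≤ c)
    (hnum : (S - 1) * (c - 1) ≤ A ^ 2 ∧ S * c ≤ B ^ 2 ∧ A * d₂ + (m - 1) * B * d₁ < d₁ * d₂ ∧ 1 ≤ S) : Prd x y g := by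
  classical
  obtain ⟨hA, hB, hn, hS1⟩ := hnum
  have hd0 : 0 < d₁ ∧ 0 < d₂ := by
    have h1 : 0 < d₁ * d₂ := (Nat.zero_le _).trans_lt hn
    exact ⟨Nat.pos_of_mul_pos_right h1, Nat.pos_of_mul_pos_left h1⟩
  have hc1 : 1 ≤ c := le_trans (Nat.card_pos (α := centralizer ({π g} : Set K))) hcard
  have hm1 : 1 ≤ m := le_trans (Nat.card_pos (α := π.ker)) hm
  have hfin : Finite (IrrCharacter π.ker) := Core.finite_irr
  have := Fintype.ofFinite (IrrCharacter π.ker)
  refine h.prd hs hc hx hy (fun θ => if θ = one1 π.ker then (d₁ : ℝ) else d₂) ?_ ?_ hcard (A := (A : ℝ)) (B := (B : ℝ))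
    (by positivity) ?_ (by positivity) ?_ ?_
  · intro θ
    split_ifs
    · exact_mod_cast hd0.1
    · exact_mod_cast hd0.2
  · intro θ χ h1 h2 h3
    split_ifs with h4
    · rw [h4] at h1
      exact_mod_cast deg_base_le hs hd₁ χ h1 h2 h3
    · exact_mod_cast hd₂ χ (exists_ne_of_lies h4 h1) h3
  · have h1 : (((S - 1) * (c - 1) : ℕ) : ℝ) ≤ ((A ^ 2 : ℕ) : ℝ) := by exact_mod_cast hA
    rw [Nat.cast_mul, Nat.cast_sub hS1, Nat.cast_sub hc1] at h1
    push_cast at h1
    exact h1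
  · exact_mod_cast hB
  · rw [if_pos rfl, Finset.sum_congr rfl (g := fun _ => (B : ℝ) / d₂)
      fun θ hθ => by rw [if_neg (Finset.ne_of_mem_erase hθ)], Finset.sum_const, nsmul_eq_mul,
      Finset.card_erase_of_mem (Finset.mem_univ _), Finset.card_univ, ← Nat.card_eq_fintype_card, card_irr_ker hc]
    have h1 : ((Nat.card π.ker - 1 : ℕ) : ℝ) ≤ ((m - 1 : ℕ) : ℝ) := by exact_mod_cast Nat.sub_le_sub_right hm 1
    have h2 : (0 : ℝ) < d₁ := by exact_mod_cast hd0.1
    have h3 : (0 : ℝ) < d₂ := by exact_mod_cast hd0.2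
    have h4 : ((A * d₂ + (m - 1) * B * d₁ : ℕ) : ℝ) < ((d₁ * d₂ : ℕ) : ℝ) := by exact_mod_cast hn
    push_cast at h4
    have h5 : ((Nat.card π.ker - 1 : ℕ) : ℝ) * ((B : ℝ) / d₂) ≤ ((m - 1 : ℕ) : ℝ) * ((B : ℝ) / d₂) := by
      gcongr
    refine lt_of_le_of_lt (add_le_add_right h5 _) ?_
    rw [div_add' _ _ _ h2.ne', div_lt_one h2, ← mul_lt_mul_iff_left₀ h3]
    calc ((A : ℝ) + ((m - 1 : ℕ) : ℝ) * ((B : ℝ) / d₂) * d₁) * d₂ = A * d₂ + ((m - 1 : ℕ) : ℝ) * B * d₁ := by
          field_simp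
      _ < d₁ * d₂ := h4

end Cfsg.Agent.H113.QS
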