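import Cfsg.Agent.H113.QS.Lies
import Cfsg.Agent.H113.QS.FourCore
import Cfsg.Agent.H65.Ore.Sieve
import Cfsg.Agent.SmallSimple.TheoremCCor

/-!
# The sieve in a perfect central extension (helper113, tool C4 for S2491, S2492)

`Z` central of order prime to `p`, `P` of order `p`, `C(P) = P Z`.

* `SZ L Z p S` : for every `x` of order `p` and every `θ ∈ Irr Z`: `∑_{χ over θ} ‖χ x‖⁴ ≤ S`, and `χ x ≠ 0 → ¬ p ∣ χ(1)`;
* `SZ.of_sylow` : `SZ` from a Sylow subgroup;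
* `SZ.prd` : the sieve with a lower bound `D θ` for the degrees over `θ`;
* `SZ.prd'` : the sieve with two bounds: `d₁` (characters of `K`) and `d₂` (all the others).
-/

set_option autoImplicit false
set_option linter.unusedSectionVars false

namespace Cfsg.Agent.H113.QS

open Cfsg Cfsg.Agent.Characters Subgroup Cfsg.Agent.H65.Ore
open Cfsg.Agent.SmallSimple.ThetaSetup Cfsg.Agent.SmallSimple.ThetaOrtho
open Cfsg.Agent.SmallSimple.TheoremC Cfsg.Agent.SmallSimple.TheoremCCor Cfsg.Agent.SmallSimple.ThetaCount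
open scoped ComplexConjugate

universe u v

variable {L : Type u} [Group L] {K : Type v} [Group K]

/-- The moments over the central characters. -/
structure SZ (L : Type u) [Group L] (Z : Subgroup L) (p S : ℕ) : Prop where
  four : ∀ [Fintype (IrrCharacter L)] (x : L), orderOf x = p → ∀ θ : IrrCharacter Z,
    ∑ χ ∈ ov Z (θ : Z → ℂ), ‖(χ : L → ℂ) x‖ ^ 4 ≤ (S : ℝ)
  ndvd : ∀ x : L, orderOf x = p → ∀ χ : IrrCharacter L, (χ : L → ℂ) x ≠ 0 → ¬ p ∣ charDegree (χ : L → ℂ)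

variable [Finite L] {Z : Subgroup L}

section Local

variable {p : ℕ} [hp : Fact p.Prime] {P : Sylow p L}

theorem part_of_lies (hZ : Z ≤ center L) {θ : IrrCharacter Z} {χ : IrrCharacter L}
    (h : Lies Z (θ : Z → ℂ) (χ : L → ℂ)) (x : L) : part (θ : Z → ℂ) (χ : L → ℂ) x = (χ : L → ℂ) x := by
  have := Fintype.ofFinite Z
  have h0 : (Nat.card Z : ℂ) ≠ 0 := by exact_mod_cast Nat.card_pos.ne'
  rw [part_eq, Finset.sum_congr rfl (g := fun _ => (χ : L → ℂ) x)]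
  · rw [Finset.sum_const, Finset.card_univ, nsmul_eq_mul, ← Nat.card_eq_fintype_card, ← mul_assoc,
      inv_mul_cancel₀ h0, _root_.one_mul]
  · intro y _
    rw [h x y, mul_assoc, Complex.mul_conj, Complex.normSq_eq_norm_sq, theta_norm hZ θ y]
    simp

theorem stable (hZ : Z ≤ center L) (hK : IsComp p (P : Subgroup L) Z) (θ : IrrCharacter Z) :
    ∀ n ∈ normalizer ((P : Subgroup L) : Set L), tw (θ : Z → ℂ) n = (θ : Z → ℂ) := by
  intro n hn
  funext y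
  rw [tw_apply hK _ hn]
  refine congrArg (θ : Z → ℂ) (Subtype.ext ?_)
  show n * (y : L) * n⁻¹ = y
  rw [mem_center_iff.1 (hZ y.2) n]
  group

theorem lies_of_over (hZ : Z ≤ center L) (hK : IsComp p (P : Subgroup L) Z) (hP : Nat.card P = p)
    {θ : IrrCharacter Z} {χ : IrrCharacter L} (h : χ ∈ Over P (θ : Z → ℂ)) : Lies Z (θ : Z → ℂ) (χ : L → ℂ) := by
  obtain ⟨θ', hθ'⟩ := exists_lies hZ χ
  obtain ⟨x, hx1, hx⟩ := mem_Over.1 h
  have h2 : θ' = θ := by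
    apply Subtype.ext
    funext z
    have h3 := apply_of_stable hK hP θ.2 (stable hZ hK θ) h hx1 z
    have h4 := apply_of_stable hK hP θ.2 (stable hZ hK θ) h hx1 1
    rw [theta_one hZ θ, mul_one, Subgroup.coe_one, mul_one] at h4
    rw [hθ' x z, h4] at h3
    exact mul_left_cancel₀ hx h3
  exact h2 ▸ hθ'

theorem moment (hZ : Z ≤ center L) (hK : IsComp p (P : Subgroup L) Z) (hP : Nat.card P = p) {e t : ℕ}
    (he : (centralizer ((P : Subgroup L) : Set L)).relIndex (normalizer ((P : Subgroup L) : Set L)) = e)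
    (ht : e * t = p - 1) {x : L} (hx : x ∈ (P : Subgroup L)) (hx1 : x ≠ 1) [Fintype (IrrCharacter L)]
    (θ : IrrCharacter Z) :
    (e : ℝ) * ∑ χ ∈ ov Z (θ : Z → ℂ), ‖(χ : L → ℂ) x‖ ^ 4 + (e : ℝ) ^ 4 = (e : ℝ) ^ 2 + p * (enr p e : ℝ) ∧
      ∀ χ ∈ ov Z (θ : Z → ℂ), (χ : L → ℂ) x ≠ 0 → ¬ p ∣ charDegree (χ : L → ℂ) := by
  classical
  have hst := stable hZ hK θ
  have he' := (card_stabAct_of_stable hK hP θ.2 hst).trans he
  obtain ⟨NE, X, ε, d, S, hOv, hdis, hNE, hX, hε, hd, hv, hvX, hXd, -, -⟩ := theoremC hK hP θ.2 he' ht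
  have hpart : ∀ χ : IrrCharacter L, (χ ∈ NE ∨ χ ∈ X) → Lies Z (θ : Z → ℂ) (χ : L → ℂ) ∧
      ∀ y : L, part (θ : Z → ℂ) (χ : L → ℂ) y = (χ : L → ℂ) y := by
    intro χ hχ
    have h1 := lies_of_over hZ hK hP ((hOv χ).2 hχ)
    exact ⟨h1, part_of_lies hZ h1⟩
  have hzero : ∀ χ ∈ ov Z (θ : Z → ℂ), χ ∉ NE ∪ X → (χ : L → ℂ) x = 0 := by
    intro χ hχ hn
    by_contra h0
    apply hn
    obtain ⟨θ', hθ'⟩ := exists_mem_Over hK hP (χ := χ) ⟨x, by rw [order_eq hP hx hx1], h0⟩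
    have h1 := lies_of_over hZ hK hP hθ'
    have h2 := (mem_ov.1 hχ).unique h1
    rw [← h2] at hθ'
    exact Finset.mem_union.2 ((hOv χ).1 hθ')
  have hsub : NE ∪ X ⊆ ov Z (θ : Z → ℂ) := by
    intro χ hχ
    exact mem_ov.2 (hpart χ (Finset.mem_union.1 hχ)).1
  constructor
  · rw [← Finset.sum_subset hsub fun χ h1 h2 => by rw [hzero χ h1 h2]; simp]
    refine four_core (P := (P : Subgroup L)) hP he ht hx hx1 hdis hNE hX hε hd ?_ ?_ hXd
    · intro χ hχ y hy hy1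
      have h1 := hv χ hχ ⟨y, hy⟩ fun h => hy1 (congrArg Subtype.val h)
      rw [(hpart χ (Or.inl hχ)).2] at h1
      exact h1
    · intro Θ hΘ
      obtain ⟨h1, h2, -, h3⟩ := hvX Θ hΘ
      refine ⟨h1, h2, fun y hy => ?_⟩
      rw [← h3 y hy, (hpart Θ (Or.inr hΘ)).2]
  · intro χ hχ h0 hdvd
    have hmem : χ ∈ NE ∪ X := by
      by_contra h
      exact h0 (hzero χ hχ h)
    rw [Finset.mem_union] at hmem
    obtain ⟨k, hk⟩ := hdvd
    have h1 := cast_deg χ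
    rw [hk] at h1
    have hpn : ∀ {a m : ℤ}, ((p * k : ℕ) : ℂ) = (a + p * m : ℤ) → (p : ℤ) ∣ a := by
      intro a m h
      have h2 : ((p * k : ℕ) : ℤ) = a + p * m := by exact_mod_cast h
      refine ⟨k - m, ?_⟩
      push_cast at h2
      linarith
    have hpp := (hpart χ hmem).2 1
    rcases hmem with hm | hm
    · obtain ⟨m, hm'⟩ := part_one_of_const hK hP (isCharacter_of_irr χ) θ.2 (hv χ hm)
      rw [hpp, h1] at hm'
      have h3 := hpn (a := ε χ) (m := m) (by push_cast; exact_mod_cast hm')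
      have h4 : (p : ℤ) ∣ 1 := by
        rcases hε χ hm with h | h
        · rwa [h] at h3
        · rw [h] at h3; exact (Int.dvd_neg.1 h3)
      have h5 : p ∣ 1 := by exact_mod_cast h4
      exact hp.out.one_lt.ne' (Nat.dvd_one.1 h5)
    · obtain ⟨hSc, hS1, -, hSv⟩ := hvX χ hm
      obtain ⟨m, hm'⟩ := part_one_of_exc hK hP (isCharacter_of_irr χ) θ.2 hS1 hSv
      rw [hpp, h1, hSc] at hm'
      have h3 := hpn (a := d * e) (m := m) (by push_cast; exact_mod_cast hm')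
      have h4 : (p : ℤ) ∣ (e : ℤ) := by
        rcases hd with h | h
        · rwa [h, _root_.one_mul] at h3
        · rw [h, neg_one_mul] at h3; exact (Int.dvd_neg.1 h3)
      have h5 : p ∣ e := by exact_mod_cast h4
      have he0 : e ≠ 0 := by
        rintro rfl
        have := hp.out.two_le
        omega
      have h6 := Nat.le_of_dvd (Nat.pos_of_ne_zero he0) h5
      have h7 : e ≤ p - 1 := Nat.le_of_dvd (by have := hp.out.two_le; omega) ⟨t, ht.symm⟩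
      have := hp.out.two_le
      omega
where
  isCharacter_of_irr (χ : IrrCharacter L) : IsCharacter L (χ : L → ℂ) := Core.isIrr_isCharacter χ.2

/-- **The constructor.** -/
theorem SZ.of_sylow (hZ : Z ≤ center L) (hK : IsComp p (P : Subgroup L) Z) (hP : Nat.card P = p) {e t S : ℕ}
    (he : (centralizer ((P : Subgroup L) : Set L)).relIndex (normalizer ((P : Subgroup L) : Set L)) = e)
    (ht : e * t = p - 1) (hS : e ^ 2 + p * enr p e ≤ e * S + e ^ 4)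
    (hconj : ∀ y : L, orderOf y = p → ∃ z ∈ (P : Subgroup L), z ≠ 1 ∧ IsConj y z) : SZ L Z p S := by
  classical
  have he0 : 0 < e := by
    rcases Nat.eq_zero_or_pos e with h | h
    · rw [h, zero_mul] at ht
      have := hp.out.two_le
      omega
    · exact h
  have hval : ∀ {y z : L}, IsConj y z → ∀ χ : IrrCharacter L, (χ : L → ℂ) y = (χ : L → ℂ) z := by
    intro y z hyz χ
    obtain ⟨g, rfl⟩ := isConj_iff.1 hyz
    exact (Core.isIrr_isClassFunction χ.2 y g).symm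
  refine ⟨fun {_} y hy θ => ?_, fun y hy χ h0 => ?_⟩
  · obtain ⟨z, hz, hz1, hyz⟩ := hconj y hy
    simp only [hval hyz]
    have h4 := (moment hZ hK hP he ht hz hz1 θ).1
    have h5 : ((e ^ 2 + p * enr p e : ℕ) : ℝ) ≤ ((e * S + e ^ 4 : ℕ) : ℝ) := by exact_mod_cast hS
    push_cast at h5
    have h6 : (0 : ℝ) < e := by exact_mod_cast he0
    have h7 : (e : ℝ) * ∑ χ ∈ ov Z (θ : Z → ℂ), ‖(χ : L → ℂ) z‖ ^ 4 ≤ (e : ℝ) * S := by linarith
    exact le_of_mul_le_mul_left h7 h6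
  · obtain ⟨z, hz, hz1, hyz⟩ := hconj y hy
    have : Finite (IrrCharacter L) := Core.finite_irr
    have := Fintype.ofFinite (IrrCharacter L)
    obtain ⟨θ, hθ⟩ := exists_lies hZ χ
    rw [hval hyz] at h0
    exact (moment hZ hK hP he ht hz hz1 θ).2 χ (mem_ov.2 hθ) h0

end Local

section Criterion

omit [Finite L] in
/-- one central character -/
theorem block_le {x y g : L} {s : Finset (IrrCharacter L)} {D S c : ℝ} (hD0 : 0 < D)
    (hD : ∀ χ ∈ s, (χ : L → ℂ) x ≠ 0 → (χ : L → ℂ) y ≠ 0 → D ≤ ‖(χ : L → ℂ) 1‖)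
    (hx : ∑ χ ∈ s, ‖(χ : L → ℂ) x‖ ^ 4 ≤ S) (hy : ∑ χ ∈ s, ‖(χ : L → ℂ) y‖ ^ 4 ≤ S)
    (hg : ∑ χ ∈ s, ‖(χ : L → ℂ) g‖ ^ 2 ≤ c) :
    ∑ χ ∈ s, ‖(χ : L → ℂ) x‖ * ‖(χ : L → ℂ) y‖ * ‖(χ : L → ℂ) g‖ / ‖(χ : L → ℂ) 1‖ ≤ √(S * c) / D := by
  have h1 : ∑ χ ∈ s, ‖(χ : L → ℂ) x‖ * ‖(χ : L → ℂ) y‖ * ‖(χ : L → ℂ) g‖ / ‖(χ : L → ℂ) 1‖ ≤
      (∑ χ ∈ s, (‖(χ : L → ℂ) x‖ * ‖(χ : L → ℂ) y‖) * ‖(χ : L → ℂ) g‖) / D := by
    rw [Finset.sum_div]
    refine Finset.sum_le_sum fun χ hχ => ?_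
    by_cases h1 : (χ : L → ℂ) x = 0
    · rw [h1]; simp
    by_cases h2 : (χ : L → ℂ) y = 0
    · rw [h2]; simp
    have h3 := hD χ hχ h1 h2
    gcongr
  have h2 : ∑ χ ∈ s, (‖(χ : L → ℂ) x‖ * ‖(χ : L → ℂ) y‖) ^ 2 ≤ S := by
    have h3 : ∀ χ ∈ s, (‖(χ : L → ℂ) x‖ * ‖(χ : L → ℂ) y‖) ^ 2 ≤
        (‖(χ : L → ℂ) x‖ ^ 4 + ‖(χ : L → ℂ) y‖ ^ 4) / 2 := by
      intro χ _
      nlinarith [sq_nonneg (‖(χ : L → ℂ) x‖ ^ 2 - ‖(χ : L → ℂ) y‖ ^ 2)]
    have h4 := Finset.sum_le_sum h3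
    rw [← Finset.sum_div, Finset.sum_add_distrib] at h4
    linarith
  have h3 := Real.sum_mul_le_sqrt_mul_sqrt s (fun χ : IrrCharacter L => ‖(χ : L → ℂ) x‖ * ‖(χ : L → ℂ) y‖)
    (fun χ : IrrCharacter L => ‖(χ : L → ℂ) g‖)
  have hS0 : 0 ≤ S := (Finset.sum_nonneg fun _ _ => by positivity).trans hx
  have h4 : √(∑ χ ∈ s, (‖(χ : L → ℂ) x‖ * ‖(χ : L → ℂ) y‖) ^ 2) * √(∑ χ ∈ s, ‖(χ : L → ℂ) g‖ ^ 2) ≤ √(S * c) := by
    rw [Real.sqrt_mul hS0]
    exact mul_le_mul (Real.sqrt_le_sqrt h2) (Real.sqrt_le_sqrt hg) (Real.sqrt_nonneg _) (Real.sqrt_nonneg _)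
  refine h1.trans ?_
  gcongr
  exact h3.trans h4

variable [Finite K] {π : L →* K} {p S : ℕ}

omit [Finite L] in
theorem one_lies : Lies π.ker (one1 π.ker : π.ker → ℂ) (one1 L : L → ℂ) := fun _ _ => by
  simp only [one1_apply, mul_one]

/-- **The sieve in `L`.** -/
theorem SZ.prd (h : SZ L π.ker p S) (hs : Function.Surjective π) (hc : π.ker ≤ center L) {x y g : L}
    (hx : orderOf x = p) (hy : orderOf y = p) [Fintype (IrrCharacter π.ker)] [DecidableEq (IrrCharacter π.ker)]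
    (D : IrrCharacter π.ker → ℝ) (hD0 : ∀ θ, 0 < D θ)
    (hD : ∀ (θ : IrrCharacter π.ker) (χ : IrrCharacter L), Lies π.ker (θ : π.ker → ℂ) (χ : L → ℂ) →
      (χ : L → ℂ) ≠ 1 → ¬ p ∣ charDegree (χ : L → ℂ) → D θ ≤ charDegree (χ : L → ℂ))
    {c : ℕ} (hcard : Nat.card (centralizer ({π g} : Set K)) ≤ c) {A B : ℝ} (hA0 : 0 ≤ A)
    (hA : ((S : ℝ) - 1) * ((c : ℝ) - 1) ≤ A ^ 2) (hB0 : 0 ≤ B) (hB : (S : ℝ) * c ≤ B ^ 2)
    (hsum : A / D (one1 π.ker) + ∑ θ ∈ Finset.univ.erase (one1 π.ker), B / D θ < 1) : Prd x y g := by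
  classical
  have : Finite (IrrCharacter L) := Core.finite_irr
  have := Fintype.ofFinite (IrrCharacter L)
  apply prd_of_sum_lt
  rw [sum_split hc, ← Finset.add_sum_erase Finset.univ _ (Finset.mem_univ (one1 π.ker)),
    ← Finset.add_sum_erase (ov π.ker (one1 π.ker : π.ker → ℂ)) _ (mem_ov.2 one_lies)]
  simp only [one1_apply, norm_one, mul_one, div_one]
  have hcR : (Nat.card (centralizer ({π g} : Set K)) : ℝ) ≤ c := by exact_mod_cast hcard
  -- the degrees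
  have hdeg : ∀ (θ : IrrCharacter π.ker) (χ : IrrCharacter L), Lies π.ker (θ : π.ker → ℂ) (χ : L → ℂ) →
      (χ : L → ℂ) ≠ 1 → (χ : L → ℂ) x ≠ 0 → D θ ≤ ‖(χ : L → ℂ) 1‖ := by
    intro θ χ h1 h2 h3
    rw [cast_deg, Complex.norm_natCast]
    exact hD θ χ h1 h2 (h.ndvd x hx χ h3)
  -- the trivial central character
  have ht1 := one_lies (π := π)
  have e4 : ∀ z : L, orderOf z = p →
      ∑ χ ∈ (ov π.ker (one1 π.ker : π.ker → ℂ)).erase (one1 L), ‖(χ : L → ℂ) z‖ ^ 4 ≤ (S : ℝ) - 1 := by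
    intro z hz
    have h1 := h.four z hz (one1 π.ker)
    rw [← Finset.add_sum_erase _ _ (mem_ov.2 ht1)] at h1
    simp only [one1_apply, norm_one, one_pow] at h1
    linarith
  have e2 : ∑ χ ∈ (ov π.ker (one1 π.ker : π.ker → ℂ)).erase (one1 L), ‖(χ : L → ℂ) g‖ ^ 2 ≤ (c : ℝ) - 1 := by
    have h1 := sum_lies_sq_le hs hc (one1 π.ker) g
    rw [← Finset.add_sum_erase _ _ (mem_ov.2 ht1)] at h1
    simp only [one1_apply, norm_one, one_pow] at h1
    linarith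
  have b1 := block_le (hD0 (one1 π.ker)) (fun χ hχ h1 _ => hdeg (one1 π.ker) χ
    (mem_ov.1 (Finset.mem_of_mem_erase hχ)) (coe_ne_one (Finset.ne_of_mem_erase hχ)) h1) (e4 x hx) (e4 y hy) e2
  have b1' : √(((S : ℝ) - 1) * ((c : ℝ) - 1)) / D (one1 π.ker) ≤ A / D (one1 π.ker) := by
    have := hD0 (one1 π.ker)
    gcongr
    exact Real.sqrt_le_iff.2 ⟨hA0, hA⟩
  have b2 : ∀ θ ∈ Finset.univ.erase (one1 π.ker), ∑ χ ∈ ov π.ker (θ : π.ker → ℂ),
      ‖(χ : L → ℂ) x‖ * ‖(χ : L → ℂ) y‖ * ‖(χ : L → ℂ) g‖ / ‖(χ : L → ℂ) 1‖ ≤ B / D θ := by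
    intro θ hθ
    have hθ1 := Finset.ne_of_mem_erase hθ
    have h1 := block_le (x := x) (y := y) (g := g) (s := ov π.ker (θ : π.ker → ℂ)) (hD0 θ)
      (fun χ hχ h1 _ => hdeg θ χ (mem_ov.1 hχ) (fun h2 => hθ1 (by
        have h3 : χ = one1 L := Subtype.ext h2
        have h4 := mem_ov.1 hχ
        rw [h3] at h4
        exact h4.unique ht1)) h1) (h.four x hx θ) (h.four y hy θ) ((sum_lies_sq_le hs hc θ g).trans hcR)
    refine h1.trans ?_
    have := hD0 θ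
    gcongr
    exact Real.sqrt_le_iff.2 ⟨hB0, hB⟩
  have b3 := Finset.sum_le_sum b2
  linarith

end Criterion

end Cfsg.Agent.H113.QS
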